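import Groth.Agent.L11.SecPts.Secant

/-!
# Secant spaces of a sufficiently very ample system meet in smaller secant spaces
-/

set_option autoImplicit false
set_option linter.style.haveILetI false
set_option linter.unusedSectionVars false
set_option backward.isDefEq.respectTransparency.types false
set_option backward.isDefEq.respectTransparency false

universe u

open CategoryTheory CategoryTheory.Limits AlgebraicGeometry TopologicalSpace Opposite

noncomputable section

namespace Groth.L11.SecPts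

open Groth.L18.Frame (pull)
open Groth.L19.ProjBdl (pullTop)

variable {k : Type u} [Field k] [IsAlgClosed k] {X : Scheme.{u}} [IsIntegral X]
  (f : X ⟶ Spec (CommRingCat.of k)) [IsProper f] (L : X.Modules) [Coh.IsQCoh L]

theorem not_subsingleton_of_deg_two {A : X.IdealSheafData} (hA : Mor2.IsFinLocFreeOfDeg 2 (A.subschemeι ≫ f)) :
    ¬ Subsingleton X := by
  intro hs
  obtain ⟨x⟩ : Nonempty X := inferInstance
  obtain ⟨P, hP, hP1, hPs⟩ := exists_point_ideal f (x := x) (Set.subsingleton_of_subsingleton.isClosed)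
  haveI := hP
  have hbot : P = ⊥ := by
    refine le_bot_iff.1 (P.le_radical.trans ?_)
    rw [← Scheme.IdealSheafData.vanishingIdeal_support,
      show P.support = (⊤ : Closeds X) from Closeds.ext (by
        rw [hPs]; exact Set.eq_univ_of_forall fun y => Subsingleton.elim y x),
      Scheme.IdealSheafData.vanishingIdeal_top, Scheme.nilradical_eq_bot]
  have h := (len_mono f (hbot ▸ bot_le : P ≤ A)).2.1
  have h2 : len f A = 2 := dimk_eq hA
  omega

theorem not_subsingleton_of_dim (hdim : topologicalKrullDim X = 1) : ¬ Subsingleton X := by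
  intro hs
  haveI : Subsingleton (TopologicalSpace.IrreducibleCloseds X) := ⟨fun S T => TopologicalSpace.IrreducibleCloseds.ext
    ((S.2.1.eq_univ).trans (T.2.1.eq_univ).symm)⟩
  have h : topologicalKrullDim X ≤ 0 := Order.krullDim_nonpos_of_subsingleton
  rw [hdim] at h
  exact absurd h (by decide)

variable {N : ℕ} (hva : ∀ I : X.IdealSheafData, Mor2.IsFinLocFreeOfDeg N (I.subschemeι ≫ f) →
  Function.Surjective (res L I)) (hX : ¬ Subsingleton X)

include hva hX in
theorem surjective_res_of_le (I : X.IdealSheafData) [IsFinite (I.subschemeι ≫ f)] (hI : len f I ≤ N) :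
    Function.Surjective (res L I) := by
  obtain ⟨I', hle, hI'⟩ := exists_le_len f hX I hI
  haveI := hI'.1.1
  exact surjective_mono L f hle (hva I' hI')

variable [Coh.IsQCoh ((Scheme.Modules.pushforward f).obj L)] {P : Scheme.{u}} {π : P ⟶ Spec (CommRingCat.of k)}
  {O1 : P.Modules} {qP : (Scheme.Modules.pullback π).obj ((Scheme.Modules.pushforward f).obj L) ⟶ O1}

include hva hX in
/-- A functional killing the sections through two distinct members kills those through a smaller subscheme. -/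
theorem exists_smaller {m : ℕ} (hm : m + m ≤ N) {A B : X.IdealSheafData}
    (hA : Mor2.IsFinLocFreeOfDeg m (A.subschemeι ≫ f)) (hB : Mor2.IsFinLocFreeOfDeg m (B.subschemeι ≫ f))
    (hne : A ≠ B) (t : Spec (CommRingCat.of k) ⟶ P) (ht : t ≫ π = 𝟙 _)
    (hkA : ∀ v, res L A v = 0 → lam _ π O1 qP t ht v = 0) (hkB : ∀ v, res L B v = 0 → lam _ π O1 qP t ht v = 0)
    {n : ℕ} (hmn : m ≤ n + 1) :
    ∃ c : X.IdealSheafData, Mor2.IsFinLocFreeOfDeg n (c.subschemeι ≫ f) ∧
      ∀ v, res L c v = 0 → lam _ π O1 qP t ht v = 0 := by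
  haveI := hA.1.1
  haveI := hB.1.1
  haveI := isFinite_inf f A B
  have hlA : len f A = m := dimk_eq hA
  have hlB : len f B = m := dimk_eq hB
  obtain ⟨hfin, hle, heq⟩ := len_mono f (le_sup_left : A ≤ A ⊔ B)
  haveI := hfin
  obtain ⟨-, hle', heq'⟩ := len_mono f (le_sup_right : B ≤ A ⊔ B)
  have hlt : len f (A ⊔ B) < m := by
    rcases lt_or_eq_of_le (hlA ▸ hle) with h | h
    · exact h
    · exact absurd ((heq (h.trans hlA.symm)).symm.trans (heq' (h.trans hlB.symm))) hne
  obtain ⟨c, hc, hcn⟩ := exists_le_len f hX (A ⊔ B) (show len f (A ⊔ B) ≤ n by omega)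
  refine ⟨c, hcn, fun v hv => ?_⟩
  have hW : Function.Surjective (res L (A ⊓ B)) := surjective_res_of_le f L hva hX _ (by
    have := len_inf_le f A B
    omega)
  obtain ⟨v₁, v₂, rfl, h₁, h₂⟩ := exists_add L f hW v (vanish_mono L hc v hv)
  rw [lam_add, hkA v₁ h₁, hkB v₂ h₂, add_zero]

/-- The point of a subscheme of length one. -/
theorem exists_point_of_deg_one {c : X.IdealSheafData} (hc : Mor2.IsFinLocFreeOfDeg 1 (c.subschemeι ≫ f)) :
    ∃ x : Spec (CommRingCat.of k) ⟶ X, x ≫ f = 𝟙 _ ∧ ∀ v, pull x L ⊤ v = 0 → res L c v = 0 := by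
  obtain ⟨⟨hfin, hflat, hfp⟩, hd⟩ := hc
  haveI := hfin; haveI := hflat; haveI := hfp
  haveI : IsIso (c.subschemeι ≫ f) := (Scheme.Hom.isIso_iff_finrank_eq _).2 (funext hd)
  refine ⟨inv (c.subschemeι ≫ f) ≫ c.subschemeι, by rw [Category.assoc, IsIso.inv_hom_id], fun v hv => ?_⟩
  have h := pull_factor_eq_zero (f := c.subschemeι ≫ f) (g := inv (c.subschemeι ≫ f) ≫ c.subschemeι)
    (h := c.subschemeι) (by rw [IsIso.hom_inv_id_assoc]) L v
  rw [hv] at h
  exact h.2 (pullTop_zero _ _ _)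

theorem isQCoh_of_rank_one {P : Scheme.{u}} {L : P.Modules} (hL : FlatMod.IsFinLocFreeOfRank 1 L) : Coh.IsQCoh L :=
  Groth.L21.Extend.isQCoh_of_isInvertible fun x => by
    obtain ⟨U, hx, ⟨e⟩⟩ := hL x
    exact ⟨U, hx, ⟨e ≪≫ coproductUniqueIso (fun _ : Fin 1 => Coh.structureModule (↑U : Scheme.{u}))⟩⟩

section Main

variable (H : Over (Spec (CommRingCat.of k))) {d : ℕ} (Z : HilbD.Obj f d H) (hU : HilbD.IsUniversal f d H Z)
  {PE : Scheme.{u}} {πE : PE ⟶ H.left} {OE : PE.Modules}
  {qE : (Scheme.Modules.pullback πE).obj (TautSh.taut f H Z.1 L) ⟶ OE}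
  (hPE : KRR.IsProjBundle πE (TautSh.taut f H Z.1 L) OE qE) {h : PE ⟶ P}
  (hh : TautSh.IsMapOfQuot π ((Scheme.Modules.pushforward f).obj L) O1 qP (πE ≫ H.hom) OE
    (TautSh.secantQuot f H Z.1 L πE OE qE) h)

include hva hX hU hPE hh in
/-- Two points with the same image either agree or their image lies on a smaller secant space. -/
theorem eq_or_exists_smaller (hd : d + d ≤ N) {a b : Spec (CommRingCat.of k) ⟶ PE}
    (ha : (a ≫ πE) ≫ H.hom = 𝟙 _) (hb : (b ≫ πE) ≫ H.hom = 𝟙 _) (hab : a ≫ h = b ≫ h) {n : ℕ} (hdn : d ≤ n + 1) :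
    a = b ∨ ∃ c : X.IdealSheafData, Mor2.IsFinLocFreeOfDeg n (c.subschemeι ≫ f) ∧
      ∀ v, res L c v = 0 → lam _ π O1 qP (a ≫ h) (comp_hom_of_point L hh a ha) v = 0 := by
  haveI : IsFinite (TautSh.famToH f H Z.1) := Z.2.1.1
  haveI : IsSeparated H.hom := Groth.Agent.S1167.result f d H Z hU
  have hA := fibre_deg f d H Z (a ≫ πE) ha
  have hB := fibre_deg f d H Z (b ≫ πE) hb
  haveI := hA.1.1
  have ht := comp_hom_of_point L hh a ha
  have hsA : Function.Surjective (res L (fibreSub f H Z.1 (a ≫ πE) ha)) :=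
    surjective_res_of_le f L hva hX _ ((dimk_eq hA).le.trans (by omega))
  by_cases hne : fibreSub f H Z.1 (a ≫ πE) ha = fibreSub f H Z.1 (b ≫ πE) hb
  · exact Or.inl (secant_ext L hU hPE hh ha hb ((surjective_res_iff L _).2 hsA) hne hab)
  refine Or.inr (exists_smaller f L hva hX hd hA hB hne (a ≫ h) ht ?_ ?_ hdn)
  · intro v hv
    rw [secant_ker L hh a ha ht v, ((fibreSec_props f H Z.1 L (a ≫ πE) ha).1 v).2 ((res_eq_zero_iff L _ v).2 hv),
      map_zero]
  · intro v hv
    rw [lam_congr _ π O1 qP hab ht (comp_hom_of_point L hh b hb) v, secant_ker L hh b hb _ v,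
      ((fibreSec_props f H Z.1 L (b ≫ πE) hb).1 v).2 ((res_eq_zero_iff L _ v).2 hv), map_zero]

end Main

end Groth.L11.SecPts
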