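import Groth.Agent.L16.AffineBC.Pullback
import Mathlib.LinearAlgebra.TensorProduct.Quotient

/-!
# Sections restricted along a map which is surjective on functions
-/

set_option autoImplicit false
set_option linter.style.haveILetI false
set_option backward.isDefEq.respectTransparency.types false
set_option backward.isDefEq.respectTransparency false

universe u

open CategoryTheory CategoryTheory.Limits AlgebraicGeometry TopologicalSpace Opposite
open scoped TensorProduct

noncomputable section

namespace Groth.L11.SecPts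

open Groth.L16.AffineBC (pullRes isBaseChange_pull)

variable {R A M N : Type u} [CommRing R] [CommRing A] [Algebra R A] [AddCommGroup M] [Module R M]
  [AddCommGroup N] [Module R N] [Module A N] [IsScalarTower R A N]

theorem surjective_of_isBaseChange (hA : Function.Surjective (algebraMap R A)) {f : M →ₗ[R] N}
    (h : IsBaseChange A f) : Function.Surjective f := by
  intro y
  induction y using h.inductionOn with
  | zero => exact ⟨0, map_zero _⟩
  | tmul m => exact ⟨m, rfl⟩
  | smul a n ih =>
    obtain ⟨r, rfl⟩ := hA a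
    obtain ⟨m, rfl⟩ := ih
    exact ⟨r • m, by rw [map_smul, algebraMap_smul]⟩
  | add a b iha ihb =>
    obtain ⟨m, rfl⟩ := iha
    obtain ⟨m', rfl⟩ := ihb
    exact ⟨m + m', map_add _ _ _⟩

theorem apply_eq_zero_iff_of_isBaseChange (hA : Function.Surjective (algebraMap R A)) {f : M →ₗ[R] N}
    (h : IsBaseChange A f) (m : M) :
    f m = 0 ↔ m ∈ RingHom.ker (algebraMap R A) • (⊤ : Submodule R M) := by
  set K := RingHom.ker (algebraMap R A) with hK
  let e : (R ⧸ K) ≃ₗ[R] A := (Ideal.quotientKerAlgEquivOfSurjective (f := Algebra.ofId R A) hA).toLinearEquiv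
  let E : A ⊗[R] M ≃ₗ[R] M ⧸ K • (⊤ : Submodule R M) :=
    (TensorProduct.congr e.symm (LinearEquiv.refl R M)).trans (TensorProduct.quotTensorEquivQuotSMul M K)
  have hE : E (1 ⊗ₜ m) = Submodule.Quotient.mk m := by
    show TensorProduct.quotTensorEquivQuotSMul M K (e.symm 1 ⊗ₜ m) = _
    rw [show e.symm 1 = Ideal.Quotient.mk K 1 from map_one (Ideal.quotientKerAlgEquivOfSurjective (f := Algebra.ofId R A) hA).symm,
      TensorProduct.quotTensorEquivQuotSMul_mk_tmul, one_smul]
  have hf : f m = h.equiv (1 ⊗ₜ m) := by rw [IsBaseChange.equiv_tmul, one_smul]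
  rw [← Submodule.Quotient.mk_eq_zero, ← hE, hf, LinearEquiv.map_eq_zero_iff, LinearEquiv.map_eq_zero_iff]

variable {X Y : Scheme.{u}} (f : X ⟶ Y) (G : Y.Modules) {V : Y.Opens} {U : X.Opens}

theorem surjective_pullRes [Coh.IsQCoh G] (hV : IsAffineOpen V) (hU : IsAffineOpen U) (e : U ≤ f ⁻¹ᵁ V)
    (hs : Function.Surjective (f.appLE V U e)) : Function.Surjective (pullRes f G e) := by
  letI : Algebra Γ(Y, V) Γ(X, U) := (f.appLE V U e).hom.toAlgebra
  letI := Module.compHom Γ((Scheme.Modules.pullback f).obj G, U) (f.appLE V U e).hom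
  haveI : IsScalarTower Γ(Y, V) Γ(X, U) Γ((Scheme.Modules.pullback f).obj G, U) :=
    IsScalarTower.of_algebraMap_smul fun _ _ => rfl
  exact surjective_of_isBaseChange hs (isBaseChange_pull f G hV hU e)

theorem pullRes_eq_zero_iff [Coh.IsQCoh G] (hV : IsAffineOpen V) (hU : IsAffineOpen U) (e : U ≤ f ⁻¹ᵁ V)
    (hs : Function.Surjective (f.appLE V U e)) (m : Γ(G, V)) :
    pullRes f G e m = 0 ↔ m ∈ RingHom.ker (f.appLE V U e).hom • (⊤ : Submodule Γ(Y, V) Γ(G, V)) := by
  letI : Algebra Γ(Y, V) Γ(X, U) := (f.appLE V U e).hom.toAlgebra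
  letI := Module.compHom Γ((Scheme.Modules.pullback f).obj G, U) (f.appLE V U e).hom
  haveI : IsScalarTower Γ(Y, V) Γ(X, U) Γ((Scheme.Modules.pullback f).obj G, U) :=
    IsScalarTower.of_algebraMap_smul fun _ _ => rfl
  exact apply_eq_zero_iff_of_isBaseChange hs (isBaseChange_pull f G hV hU e) m

end Groth.L11.SecPts
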