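import Groth.Agent.L11.SecPts.Point
import Groth.Agent.L11.SecPts.Kernel
import Groth.Agent.L11.FlatDesc.Rigid
import Groth.Agent.L17.ThickBasic
import Groth.Agent.L16.QcqsPush
import Groth.Agent.L02.Hilb.Base
import Groth.Agent.L22.Ideal

/-!
# The tautological sheaf at a rational point of the parameter scheme

At a rational point `z` of the parameter scheme the images of the global sections of `L` in the fibre of
the tautological sheaf are the restrictions to the subscheme parametrised by `z`.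
-/

set_option autoImplicit false
set_option linter.style.haveILetI false
set_option linter.unusedSectionVars false
set_option backward.isDefEq.respectTransparency.types false
set_option backward.isDefEq.respectTransparency false

universe u

open CategoryTheory CategoryTheory.Limits AlgebraicGeometry TopologicalSpace Opposite

noncomputable section

namespace Groth.L11.SecPts

open Groth.L18.Frame (rs ro rs_rs rs_self pull pull_rs pull_smul)
open Groth.L19.ProjBdl (pullTop pullTop_mono pullTop_smul app_rs pull_comp pull_congr pull_app)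
open Groth.L16.AffineBC (pullRes)

theorem app_eq_zero_iff {X : Scheme.{u}} {M N : X.Modules} (φ : M ⟶ N) [IsIso φ] (U : X.Opens) (m : Γ(M, U)) :
    φ.app U m = 0 ↔ m = 0 :=
  map_eq_zero_iff _ (ConcreteCategory.bijective_of_isIso (φ.app U)).1

theorem pull_congr_eq_zero {X Y : Scheme.{u}} {g g' : X ⟶ Y} (e : g = g') (M : Y.Modules) (V : Y.Opens) (m : Γ(M, V)) :
    pull g M V m = 0 ↔ pull g' M V m = 0 := by
  subst e
  rfl

theorem pull_comp_eq_zero {X Y Z : Scheme.{u}} (f : X ⟶ Y) (g : Y ⟶ Z) (M : Z.Modules) (V : Z.Opens) (m : Γ(M, V)) :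
    pull (f ≫ g) M V m = 0 ↔ pull f ((Scheme.Modules.pullback g).obj M) (g ⁻¹ᵁ V) (pull g M V m) = 0 := by
  rw [← pull_comp, app_eq_zero_iff]

theorem pullTop_add {T X : Scheme.{u}} (h : T ⟶ X) (M : X.Modules) {W : X.Opens} (hW : ⊤ ≤ h ⁻¹ᵁ W) (m m' : Γ(M, W)) :
    pullTop h M hW (m + m') = pullTop h M hW m + pullTop h M hW m' :=
  (congrArg (rs _ hW) (map_add (((Scheme.Modules.pullbackPushforwardAdjunction h).unit.app M).app W).hom m m')).trans
    (map_add (((Scheme.Modules.pullback h).obj M).presheaf.map (homOfLE hW).op).hom _ _)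

theorem appLE_top_props {Y Z : Scheme.{u}} (g : Z ⟶ Y) [IsClosedImmersion g] (W : Y.affineOpens)
    (e : ⊤ ≤ g ⁻¹ᵁ W.1) :
    Function.Surjective (g.appLE W.1 ⊤ e) ∧ RingHom.ker (g.appLE W.1 ⊤ e).hom = g.ker.ideal W := by
  haveI : IsIso (homOfLE e) := ⟨homOfLE le_top, Subsingleton.elim _ _, Subsingleton.elim _ _⟩
  have hb := ConcreteCategory.bijective_of_isIso (Z.presheaf.map (homOfLE e).op)
  refine ⟨hb.2.comp (g.app_surjective _ W.2), ?_⟩
  rw [Scheme.Hom.ker_apply]
  refine Ideal.ext fun c => ?_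
  rw [RingHom.mem_ker, RingHom.mem_ker]
  exact map_eq_zero_iff _ hb.1

theorem mem_smul_map_iff {R S M : Type u} [CommRing R] [CommRing S] [AddCommGroup M] [Module R M] [Module S M]
    (φ : R →+* S) (h : ∀ (r : R) (m : M), r • m = φ r • m) (I : Ideal R) (m : M) :
    m ∈ I • (⊤ : Submodule R M) ↔ m ∈ I.map φ • (⊤ : Submodule S M) := by
  constructor
  · intro hm
    refine Submodule.smul_induction_on hm (fun r hr x _ => ?_) fun x y hx hy => add_mem hx hy
    rw [h]; exact Submodule.smul_mem_smul (Ideal.mem_map_of_mem φ hr) trivial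
  · intro hm
    refine Submodule.smul_induction_on hm (fun s hs x _ => ?_) fun x y hx hy => add_mem hx hy
    induction hs using Submodule.span_induction generalizing x with
    | mem s hs =>
      obtain ⟨r, hr, rfl⟩ := hs
      rw [← h]
      exact Submodule.smul_mem_smul hr trivial
    | zero => rw [zero_smul]; exact zero_mem _
    | add s t _ _ ihs iht => rw [add_smul]; exact add_mem (ihs x trivial) (iht x trivial)
    | smul s t _ iht => rw [smul_eq_mul, mul_comm, mul_smul]; exact iht _ trivial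

/-- Kernels of restriction to a fibre of an affine morphism, before and after pushing forward. -/
theorem pullRes_push_eq_zero {F Y B' W : Scheme.{u}} (p : F ⟶ Y) (M : F.Modules) [Coh.IsQCoh M]
    [Coh.IsQCoh ((Scheme.Modules.pushforward p).obj M)] (z : B' ⟶ Y) (w : W ⟶ F) {V : Y.Opens} (hV : IsAffineOpen V)
    (hU : IsAffineOpen (p ⁻¹ᵁ V)) [IsAffine B'] [IsAffine W] (ez : ⊤ ≤ z ⁻¹ᵁ V) (ew : ⊤ ≤ w ⁻¹ᵁ (p ⁻¹ᵁ V))
    (hzs : Function.Surjective (z.appLE V ⊤ ez)) (hws : Function.Surjective (w.appLE (p ⁻¹ᵁ V) ⊤ ew))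
    (hk : (RingHom.ker (z.appLE V ⊤ ez).hom).map (p.app V).hom = RingHom.ker (w.appLE (p ⁻¹ᵁ V) ⊤ ew).hom)
    (m : Γ(M, p ⁻¹ᵁ V)) :
    pullTop z ((Scheme.Modules.pushforward p).obj M) ez m = 0 ↔ pullTop w M ew m = 0 := by
  refine (pullRes_eq_zero_iff z ((Scheme.Modules.pushforward p).obj M) hV (isAffineOpen_top B') ez hzs m).trans ?_
  refine Iff.trans ?_ (pullRes_eq_zero_iff w M hU (isAffineOpen_top W) ew hws m).symm
  rw [← hk]
  letI : Module Γ(Y, V) Γ(M, p ⁻¹ᵁ V) := Module.compHom _ (p.app V).hom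
  exact mem_smul_map_iff (M := Γ(M, p ⁻¹ᵁ V)) (p.app V).hom (fun _ _ => rfl) _ m

theorem exists_pullTop {Y B' : Scheme.{u}} (G : Y.Modules) [Coh.IsQCoh G] (z : B' ⟶ Y) [IsAffine B'] {V : Y.Opens}
    (hV : IsAffineOpen V) (ez : ⊤ ≤ z ⁻¹ᵁ V) (hzs : Function.Surjective (z.appLE V ⊤ ez))
    (x : Γ((Scheme.Modules.pullback z).obj G, ⊤)) : ∃ m, pullTop z G ez m = x :=
  surjective_pullRes z G hV (isAffineOpen_top B') ez hzs x

variable {B X : Scheme.{u}} (f : X ⟶ B) (H : Over B) (I : (PicF.XT f H).IdealSheafData) (L : X.Modules)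
  (z : B ⟶ H.left) (hz : z ≫ H.hom = 𝟙 B)

/-- The fibre inclusion over a rational point. -/
def iz : X ⟶ PicF.XT f H :=
  pullback.lift (𝟙 X) (f ≫ z) (by rw [Category.id_comp, Category.assoc, hz, Category.comp_id])

theorem iz_fst : iz f H z hz ≫ pullback.fst f H.hom = 𝟙 X := pullback.lift_fst _ _ _

theorem isPullback_iz : IsPullback (iz f H z hz) f (PicF.XTproj f H) z := by
  refine IsPullback.of_right ?_ (pullback.lift_snd _ _ _) (IsPullback.of_hasPullback f H.hom)
  rw [iz_fst, hz]
  exact IsPullback.of_horiz_isIso ⟨by simp⟩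

/-- The subscheme parametrised by a rational point. -/
abbrev fibreSub : X.IdealSheafData := I.comap (iz f H z hz)

/-- The section of the tautological sheaf of a global section. -/
def tautSec (s : Γ(L, ⊤)) : Γ(TautSh.taut f H I L, ⊤) := (TautSh.pushEval f H I L).app ⊤ s

theorem tautSec_eq (s : Γ(L, ⊤)) : tautSec f H I L s = pull (TautSh.famToX f H I) L ⊤ s := by
  rw [tautSec, TautSh.pushEval]
  simp
  rfl

/-- Its value at a rational point. -/
def fibreSec (s : Γ(L, ⊤)) : Γ((Scheme.Modules.pullback z).obj (TautSh.taut f H I L), ⊤) :=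
  pullTop z (TautSh.taut f H I L) (W := ⊤) le_top (tautSec f H I L s)

theorem fibreSec_add (s t : Γ(L, ⊤)) : fibreSec f H I L z (s + t) = fibreSec f H I L z s + fibreSec f H I L z t := by
  rw [fibreSec, fibreSec, fibreSec,
    show tautSec f H I L (s + t) = tautSec f H I L s + tautSec f H I L t from
      map_add ((TautSh.pushEval f H I L).app ⊤).hom s t, pullTop_add]

include hz in
theorem fibreSec_smul (a : Γ(B, ⊤)) (s : Γ((Scheme.Modules.pushforward f).obj L, ⊤)) :
    fibreSec f H I L z ((a • s : Γ((Scheme.Modules.pushforward f).obj L, ⊤))) = a • fibreSec f H I L z s := by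
  have h1 : tautSec f H I L ((a • s : Γ((Scheme.Modules.pushforward f).obj L, ⊤))) =
      (H.hom.appTop a) • tautSec f H I L s := Scheme.Modules.Hom.app_smul (TautSh.pushEval f H I L) (U := ⊤) a s
  rw [fibreSec, fibreSec, h1]
  refine (pullTop_smul z (TautSh.taut f H I L) (W := ⊤) le_top (H.hom.appTop a) _).trans ?_
  congr 1
  have h2 : H.hom.appTop ≫ z.appTop = 𝟙 _ := by rw [← Scheme.Hom.comp_appTop, hz, Scheme.Hom.id_appTop]
  refine Eq.trans ?_ (ConcreteCategory.congr_hom h2 a)
  rw [Scheme.Hom.appLE]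
  show (B.presheaf.map (homOfLE (le_refl (⊤ : B.Opens))).op) (z.appTop (H.hom.appTop a)) = _
  exact Groth.L18.Frame.ro_self _ _

variable [Subsingleton B] [Nonempty B] [IsAffine B] [IsSeparated H.hom] [Coh.IsQCoh L] [IsFinite (TautSh.famToH f H I)]

set_option maxHeartbeats 1600000 in
include hz in
/-- The fibre of the tautological sheaf at a rational point. -/
theorem fibreSec_props :
    (∀ s, fibreSec f H I L z s = 0 ↔ TautSh.resSect (fibreSub f H I z hz) L s = 0) ∧
      (Function.Surjective (TautSh.resSect (fibreSub f H I z hz) L) → Function.Surjective (fibreSec f H I L z)) := by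
  haveI : IsClosedImmersion z := by
    haveI : IsClosedImmersion (z ≫ H.hom) := by rw [hz]; infer_instance
    exact IsClosedImmersion.of_comp z H.hom
  set J := fibreSub f H I z hz
  set w := Groth.L11.FlatDesc.proj (iz f H z hz) I
  have sqw : IsPullback w (J.subschemeι ≫ f) (TautSh.famToH f H I) z :=
    (IsPullback.of_hasPullback (iz f H z hz) I.subschemeι).flip.of_iso (I.comapIso _).symm (Iso.refl _) (Iso.refl _)
      (Iso.refl _) (fst' := w) (snd' := J.subschemeι)
      (by simp only [w, Groth.L11.FlatDesc.proj, Iso.symm_hom, Iso.inv_hom_id_assoc, Iso.refl_hom, Category.comp_id])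
      (by rw [Iso.refl_hom, Category.comp_id, Iso.symm_hom]; erw [Scheme.IdealSheafData.comapIso_inv_subschemeι])
      (by simp) (by simp) |>.paste_vert (isPullback_iz f H z hz)
  have hwq : w ≫ TautSh.famToX f H I = J.subschemeι := by
    rw [TautSh.famToX, ← Category.assoc, Groth.L11.FlatDesc.proj_ι, Category.assoc, iz_fst, Category.comp_id]
  haveI : IsClosedImmersion w := MorphismProperty.of_isPullback sqw.flip ‹IsClosedImmersion z›
  let b := Classical.arbitrary B
  obtain ⟨V₀, hV₀, hbV, -⟩ := exists_isAffineOpen_mem_and_subset (x := z b) (U := ⊤) trivial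
  let V : H.left.affineOpens := ⟨V₀, hV₀⟩
  let U : (TautSh.fam f H I).affineOpens := ⟨TautSh.famToH f H I ⁻¹ᵁ V₀, hV₀.preimage _⟩
  have ez : ⊤ ≤ z ⁻¹ᵁ V.1 := fun y _ => by
    show z y ∈ V₀
    rw [Subsingleton.elim y b]; exact hbV
  have ew : ⊤ ≤ w ⁻¹ᵁ U.1 := fun y _ => by
    show (w ≫ TautSh.famToH f H I) y ∈ V₀
    rw [sqw.w, Scheme.Hom.comp_apply, Subsingleton.elim ((J.subschemeι ≫ f) y) b]; exact hbV
  haveI : IsFinite (J.subschemeι ≫ f) := MorphismProperty.of_isPullback sqw ‹IsFinite (TautSh.famToH f H I)›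
  haveI : IsAffine J.subscheme := isAffine_of_isAffineHom (J.subschemeι ≫ f)
  obtain ⟨hzs, hzk⟩ := appLE_top_props z V ez
  obtain ⟨hws, hwk⟩ := appLE_top_props w U ew
  have hk : (RingHom.ker (z.appLE V.1 ⊤ ez).hom).map ((TautSh.famToH f H I).app V.1).hom =
      RingHom.ker (w.appLE U.1 ⊤ ew).hom := by
    rw [hzk, hwk, Groth.L17.Thick.ker_of_isPullback sqw, Groth.L22.Ideals.comap_ideal _ _ V U le_rfl,
      ← Scheme.Hom.app_eq_appLE]
  haveI : Coh.IsQCoh ((Scheme.Modules.pullback (TautSh.famToX f H I)).obj L) := Groth.L16.AffineBC.isQCoh_pullback _ _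
  haveI hpq : Coh.IsQCoh ((Scheme.Modules.pushforward (TautSh.famToH f H I)).obj
      ((Scheme.Modules.pullback (TautSh.famToX f H I)).obj L)) :=
    Groth.L16.QcqsPush.isQCoh_push ((Scheme.Modules.pullback (TautSh.famToX f H I)).obj L) (TautSh.famToH f H I)
  set M := (Scheme.Modules.pullback (TautSh.famToX f H I)).obj L
  have hz0 := pullRes_push_eq_zero (TautSh.famToH f H I) M z w (V := V₀) hV₀ U.2 ez ew hzs hws hk
  have hfib : ∀ s, fibreSec f H I L z s =
      pullTop z (TautSh.taut f H I L) ez (rs M le_top (pull (TautSh.famToX f H I) L ⊤ s)) := fun s => by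
    rw [fibreSec, tautSec_eq]
    exact (pullTop_mono z (TautSh.taut f H I L) (W := ⊤) le_top le_top ez _).symm
  have hres : ∀ s, TautSh.resSect J L s = 0 ↔ pullTop w M ew (rs M le_top (pull (TautSh.famToX f H I) L ⊤ s)) = 0 := by
    intro s
    rw [show pullTop w M ew (rs M le_top (pull (TautSh.famToX f H I) L ⊤ s)) =
        pull w M ⊤ (pull (TautSh.famToX f H I) L ⊤ s) from
      (pullTop_mono w M (W := ⊤) le_top le_top ew _).trans (rs_self _ _ _)]
    exact ((pull_congr_eq_zero hwq L ⊤ s).symm).trans (pull_comp_eq_zero w (TautSh.famToX f H I) L ⊤ s)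
  refine ⟨fun s => ?_, fun hsurj x => ?_⟩
  · rw [hfib, hres]
    exact hz0 _
  · obtain ⟨m, rfl⟩ := exists_pullTop ((Scheme.Modules.pushforward (TautSh.famToH f H I)).obj M) z hV₀ ez hzs x
    change Γ(M, U.1) at m
    let κ := (Scheme.Modules.pullbackComp w (TautSh.famToX f H I)).inv.app L
    let κ' := (Scheme.Modules.pullbackCongr hwq).inv.app L
    obtain ⟨y, hy⟩ := (ConcreteCategory.bijective_of_isIso ((κ' ≫ κ).app ⊤)).2 (pullTop w M ew m)
    obtain ⟨s, rfl⟩ := hsurj y
    refine ⟨s, ?_⟩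
    have h1 : pullTop w M ew (rs M le_top (pull (TautSh.famToX f H I) L ⊤ s)) = pullTop w M ew m := by
      rw [← hy]
      refine ((pullTop_mono w M (W := ⊤) le_top le_top ew _).trans (rs_self _ _ _)).trans ?_
      show _ = κ.app ⊤ (κ'.app ⊤ (pull J.subschemeι L ⊤ s))
      exact ((congrArg (κ.app ⊤) ((pull_congr hwq L ⊤ s rfl).trans (rs_self _ _ _))).trans
        (pull_comp w (TautSh.famToX f H I) L ⊤ s)).symm
    rw [hfib]
    set m₀ := rs M le_top (pull (TautSh.famToX f H I) L ⊤ s)
    have h2 : pullTop w M ew (m₀ - m) = 0 := by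
      have h3 := pullTop_add w M ew (m₀ - m) m
      rw [sub_add_cancel, h1] at h3
      simpa using h3
    have h4 := pullTop_add z ((Scheme.Modules.pushforward (TautSh.famToH f H I)).obj M) ez (m₀ - m) m
    have h5 : pullTop z ((Scheme.Modules.pushforward (TautSh.famToH f H I)).obj M) ez (m₀ - m) = 0 := (hz0 _).2 h2
    refine Eq.trans ?_ (h4.trans ((congrArg₂ (· + ·) h5 rfl).trans (zero_add _)))
    exact congrArg (pullTop z ((Scheme.Modules.pushforward (TautSh.famToH f H I)).obj M) ez) (sub_add_cancel m₀ m).symm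

end Groth.L11.SecPts
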