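import Groth.Agent.L19.ProjBdl.PullComp
import Groth.Agent.L19.ProjBdl.Points
import Groth.Agent.L16.AffineBC.Local
import Groth.Agent.L16.AffineBC.Pullback
import Groth.Agent.L18.Grass.MapEpi
import Groth.Prelude.Def_TautSec

/-!
# Points of projective bundles with values in a one point scheme

A point of a projective bundle over a point of the base is a quotient line of the fibre; it is
determined by the kernel of that quotient.
-/

set_option autoImplicit false
set_option linter.style.haveILetI false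
set_option linter.unusedSectionVars false
set_option backward.isDefEq.respectTransparency.types false
set_option backward.isDefEq.respectTransparency false

universe u

open CategoryTheory CategoryTheory.Limits AlgebraicGeometry TopologicalSpace Opposite

noncomputable section

namespace Groth.L11.SecPts

open Groth.L18.Frame (rs ro rs_rs rs_self IsFrame pull pull_rs pull_smul)
open Groth.L19.ProjBdl (pullTop pullTop_smul app_rs pull_comp pull_congr pull_app one1 smul_one1 isFrame_one1)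

variable {B : Scheme.{u}} [Subsingleton B]

theorem eq_bot_or_top (U : B.Opens) : U = ⊥ ∨ U = ⊤ := by
  rcases (U : Set B).eq_empty_or_nonempty with h | ⟨x, hx⟩
  · exact Or.inl (Opens.ext h)
  · exact Or.inr (Opens.ext (Set.eq_univ_of_forall fun y => Subsingleton.elim x y ▸ hx))

theorem subsingleton_bot (M : B.Modules) : Subsingleton Γ(M, (⊥ : B.Opens)) := by
  refine ⟨fun s t => ?_⟩
  exact TopCat.Sheaf.eq_of_locally_eq' ⟨M.presheaf, M.isSheaf⟩ (fun i : PEmpty.{u + 1} => i.elim) ⊥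
    (fun i => i.elim) bot_le s t fun i => i.elim

/-- Morphisms over a one point scheme are determined on global sections. -/
theorem hom_ext_point {M N : B.Modules} (φ ψ : M ⟶ N) (h : ∀ m, φ.app ⊤ m = ψ.app ⊤ m) : φ = ψ := by
  refine Groth.L16.AffineBC.hom_ext_affine φ ψ fun U _ m => ?_
  rcases eq_bot_or_top U with rfl | rfl
  · exact (subsingleton_bot N).elim _ _
  · exact h m

/-- Linear maps of global sections over a one point scheme give morphisms. -/
theorem exists_hom_point {M N : B.Modules} (μ : Γ(M, ⊤) →+ Γ(N, ⊤))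
    (hμ : ∀ (a : Γ(B, ⊤)) (m : Γ(M, ⊤)), μ (a • m) = a • μ m) :
    ∃ φ : M ⟶ N, ∀ m, φ.app ⊤ m = μ m := by
  classical
  let F : ∀ U : B.Opens, IsAffineOpen U → (Γ(M, U) →+ Γ(N, U)) := fun U _ =>
    if h : U = ⊤ then h ▸ μ else 0
  obtain ⟨φ, hφ⟩ := Groth.L16.AffineBC.exists_hom_affine F (fun U V _ _ hle m => by
    rcases eq_bot_or_top V with rfl | rfl
    · exact (subsingleton_bot N).elim _ _
    · obtain rfl : U = ⊤ := top_le_iff.1 hle
      simp only [F, dif_pos]
      show μ (rs M hle m) = rs N hle (μ m)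
      rw [rs_self, rs_self]) (fun U _ r m => by
    rcases eq_bot_or_top U with rfl | rfl
    · exact (subsingleton_bot N).elim _ _
    · simp only [F, dif_pos]
      exact hμ r m)
  refine ⟨φ, fun m => ?_⟩
  rw [hφ ⊤ (by rcases eq_bot_or_top (⊤ : B.Opens) with h | _
               · exact h ▸ isAffineOpen_bot B
               · exact isAffineOpen_top_of_subsingleton) m]
  simp only [F, dif_pos]
where
  isAffineOpen_top_of_subsingleton : IsAffineOpen (⊤ : B.Opens) := by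
    rcases isEmpty_or_nonempty B with h | ⟨⟨x⟩⟩
    · rw [show (⊤ : B.Opens) = ⊥ from Opens.ext (Set.eq_empty_of_isEmpty _)]; exact isAffineOpen_bot B
    · obtain ⟨U, hU, hx, -⟩ := exists_isAffineOpen_mem_and_subset (x := x) (U := (⊤ : B.Opens)) trivial
      rcases eq_bot_or_top U with rfl | rfl
      · exact hx.elim
      · exact hU

theorem exists_frame_point [Nonempty B] {N : B.Modules} (hN : FlatMod.IsFinLocFreeOfRank 1 N) :
    ∃ τ : Γ(N, ⊤), IsFrame N ⊤ τ := by
  obtain ⟨W, τ, hx, hτ⟩ := Groth.L19.ProjBdl.exists_frame_of_rank_one hN (Classical.arbitrary B)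
  rcases eq_bot_or_top W with rfl | rfl
  · exact hx.elim
  · exact ⟨τ, hτ⟩

theorem bijective_smul {N : B.Modules} {τ : Γ(N, ⊤)} (hτ : IsFrame N ⊤ τ) :
    Function.Bijective fun a : Γ(B, ⊤) => a • τ := by
  simpa [rs_self] using hτ ⊤ le_rfl

/-- An epimorphism onto an invertible module is onto on global sections. -/
theorem exists_app_eq_frame {M N : B.Modules} (φ : M ⟶ N) {τ : Γ(N, ⊤)} (hτ : IsFrame N ⊤ τ)
    (hz : ∀ a : Γ(B, ⊤), a ≠ 0 → IsUnit a) (hne : ∃ m, φ.app ⊤ m ≠ 0) : ∃ m, φ.app ⊤ m = τ := by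
  obtain ⟨m, hm⟩ := hne
  obtain ⟨a, ha⟩ := (bijective_smul hτ).2 (φ.app ⊤ m)
  obtain ⟨b, hb⟩ := (hz a (by rintro rfl; exact hm (by rw [← ha]; exact zero_smul _ _))).exists_left_inv
  exact ⟨b • m, by rw [Scheme.Modules.Hom.app_smul, ← ha, smul_smul, hb, one_smul]⟩

theorem exists_app_ne_zero [Nonempty B] {M N : B.Modules} (φ : M ⟶ N) [Epi φ] {τ : Γ(N, ⊤)} (hτ : IsFrame N ⊤ τ)
    (h1 : (1 : Γ(B, ⊤)) ≠ 0) : ∃ m, φ.app ⊤ m ≠ 0 := by
  by_contra h
  push Not at h
  have h0 : φ = 0 := hom_ext_point _ _ fun m => (h m).trans rfl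
  have hid : 𝟙 N = 0 := (cancel_epi φ).1 (by rw [h0, zero_comp, zero_comp])
  refine h1 ((bijective_smul hτ).1 ?_)
  show (1 : Γ(B, ⊤)) • τ = (0 : Γ(B, ⊤)) • τ
  rw [one_smul, zero_smul]
  exact congr(($hid).app ⊤ τ)

theorem epi_of_app_eq_frame {M N : B.Modules} (φ : M ⟶ N) {τ : Γ(N, ⊤)} (hτ : IsFrame N ⊤ τ) {m : Γ(M, ⊤)}
    (hm : φ.app ⊤ m = τ) : Epi φ := ⟨fun {Z} a a' h => hom_ext_point _ _ fun t => by
  obtain ⟨c, rfl⟩ := (bijective_smul hτ).2 t
  show a.app ⊤ (c • τ) = a'.app ⊤ (c • τ)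
  rw [← hm, Scheme.Modules.Hom.app_smul, Scheme.Modules.Hom.app_smul]
  exact congrArg (c • ·) congr(($h).app ⊤ m)⟩

/-- Morphisms out of a free module of rank one. -/
theorem exists_hom_frame {M N : B.Modules} {τ : Γ(M, ⊤)} (hτ : IsFrame M ⊤ τ) (y : Γ(N, ⊤)) :
    ∃ A : M ⟶ N, ∀ a : Γ(B, ⊤), A.app ⊤ (a • τ) = a • y := by
  let L : Γ(B, ⊤) →ₗ[Γ(B, ⊤)] Γ(M, ⊤) := LinearMap.toSpanSingleton Γ(B, ⊤) Γ(M, ⊤) τ
  let E := LinearEquiv.ofBijective L (bijective_smul hτ)
  let F : Γ(M, ⊤) →ₗ[Γ(B, ⊤)] Γ(N, ⊤) := (LinearMap.toSpanSingleton Γ(B, ⊤) Γ(N, ⊤) y).comp E.symm.toLinearMap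
  obtain ⟨A, hA⟩ := exists_hom_point F.toAddMonoidHom (fun a m => F.map_smul a m)
  refine ⟨A, fun a => ?_⟩
  rw [hA]
  show E.symm (E a) • y = a • y
  rw [E.symm_apply_apply]

section Bundle

variable {B₀ P : Scheme.{u}} (π : P ⟶ B₀) (V : B₀.Modules) (O1 : P.Modules)
  (q : (Scheme.Modules.pullback π).obj V ⟶ O1) {g : B ⟶ B₀}

/-- The quotient of a point. -/
def canon (t : B ⟶ P) (hg : t ≫ π = g) :
    (Scheme.Modules.pullback g).obj V ⟶ (Scheme.Modules.pullback t).obj O1 :=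
  (Scheme.Modules.pullbackCongr hg).inv.app V ≫ (Scheme.Modules.pullbackComp t π).inv.app V ≫
    (Scheme.Modules.pullback t).map q

theorem canon_pullTop (t : B ⟶ P) (hg : t ≫ π = g) (v : Γ(V, ⊤)) :
    (canon π V O1 q t hg).app ⊤ (pullTop g V (W := ⊤) le_top v) =
      pullTop t O1 (W := ⊤) le_top (q.app ⊤ (pull π V ⊤ v)) := by
  subst hg
  rw [pullTop, app_rs]
  refine congrArg (rs _ le_top) ?_
  show ((Scheme.Modules.pullback t).map q).app _ (((Scheme.Modules.pullbackComp t π).inv.app V).app _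
    (((Scheme.Modules.pullbackCongr rfl).inv.app V).app _ (pull (t ≫ π) V ⊤ v))) = _
  rw [show ((Scheme.Modules.pullbackCongr (rfl : t ≫ π = t ≫ π)).inv.app V).app _ (pull (t ≫ π) V ⊤ v) = pull (t ≫ π) V ⊤ v
    from (pull_congr (rfl : t ≫ π = t ≫ π) V ⊤ v rfl).trans (rs_self _ _ _), pull_comp]
  exact pull_app t q ⊤ (pull π V ⊤ v)

theorem epi_canon (hP : KRR.IsProjBundle π V O1 q) (t : B ⟶ P) (hg : t ≫ π = g) : Epi (canon π V O1 q t hg) := by
  haveI := hP.epi
  haveI : (Scheme.Modules.pullback t).PreservesEpimorphisms :=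
    Functor.preservesEpimorphisms_of_adjunction (Scheme.Modules.pullbackPushforwardAdjunction t)
  unfold canon
  infer_instance

theorem rank_one_pullback (hP : KRR.IsProjBundle π V O1 q) (t : B ⟶ P) :
    FlatMod.IsFinLocFreeOfRank 1 ((Scheme.Modules.pullback t).obj O1) :=
  Groth.L18.MapEpi.isFinLocFreeOfRank_pullback t hP.invertible

/-- A point is determined by the kernel of its quotient. -/
theorem point_ext [Nonempty B] (hk : ∀ a : Γ(B, ⊤), a ≠ 0 → IsUnit a) (h1 : (1 : Γ(B, ⊤)) ≠ 0)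
    (hP : KRR.IsProjBundle π V O1 q) {t t' : B ⟶ P} (ht : t ≫ π = g) (ht' : t' ≫ π = g)
    (hker : ∀ x, (canon π V O1 q t ht).app ⊤ x = 0 ↔ (canon π V O1 q t' ht').app ⊤ x = 0) : t = t' := by
  haveI := epi_canon π V O1 q hP t ht
  haveI := epi_canon π V O1 q hP t' ht'
  set c := canon π V O1 q t ht with hc
  set c' := canon π V O1 q t' ht' with hc'
  obtain ⟨τ, hτ⟩ := exists_frame_point (rank_one_pullback π V O1 q hP t)
  obtain ⟨τ', hτ'⟩ := exists_frame_point (rank_one_pullback π V O1 q hP t')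
  obtain ⟨m, hm⟩ := exists_app_eq_frame c hτ hk (exists_app_ne_zero c hτ h1)
  obtain ⟨b, hb⟩ := (bijective_smul hτ').2 (c'.app ⊤ m)
  have hb0 : IsUnit b := hk b (by
    rintro rfl
    have : c.app ⊤ m = 0 := (hker m).2 (by rw [← hb]; exact zero_smul _ _)
    rw [hm] at this
    refine h1 ((bijective_smul hτ).1 ?_)
    show (1 : Γ(B, ⊤)) • τ = (0 : Γ(B, ⊤)) • τ
    rw [one_smul, zero_smul]
    exact this)
  have key : ∀ x a, c.app ⊤ x = a • τ → c'.app ⊤ x = a • b • τ' := fun x a hx => by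
    have h0 : c'.app ⊤ (x - a • m) = 0 := (hker _).1 (by
      rw [map_sub, Scheme.Modules.Hom.app_smul, hm, hx, sub_self])
    rw [map_sub, Scheme.Modules.Hom.app_smul, sub_eq_zero, ← hb] at h0
    exact h0
  have hτ'' : IsFrame _ ⊤ (b • τ') := hτ'.smul_unit hb0
  obtain ⟨A, hAτ⟩ := exists_hom_frame hτ (b • τ')
  obtain ⟨A', hA'τ⟩ := exists_hom_frame hτ'' τ
  let eA : (Scheme.Modules.pullback t).obj O1 ≅ (Scheme.Modules.pullback t').obj O1 :=
    ⟨A, A', hom_ext_point _ _ fun y => by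
      obtain ⟨a, rfl⟩ := (bijective_smul hτ).2 y
      exact (congrArg (A'.app ⊤) (hAτ a)).trans (hA'τ a),
    hom_ext_point _ _ fun y => by
      obtain ⟨a, rfl⟩ := (bijective_smul hτ'').2 y
      exact (congrArg (A.app ⊤) (hA'τ a)).trans (hAτ a)⟩
  obtain ⟨h₀, -, huniq⟩ := hP.univ B g _ (rank_one_pullback π V O1 q hP t') c' ‹Epi c'›
  refine (huniq t ⟨ht, eA, ?_⟩).trans (huniq t' ⟨ht', Iso.refl _, by simp [hc', canon]⟩).symm
  have hcA : c ≫ A = c' := hom_ext_point _ _ fun x => by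
    obtain ⟨a, ha⟩ := (bijective_smul hτ).2 (c.app ⊤ x)
    show A.app ⊤ (c.app ⊤ x) = _
    rw [← ha, hAτ, key x a ha.symm]
  rw [← hcA, hc, canon]
  simp [eA]

end Bundle

end Groth.L11.SecPts
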