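import Groth.Agent.L11.SecPts.Sections
import Groth.Agent.S1167
import Groth.Agent.L21.Extend.Semilocal
import Groth.Agent.L02.Hilb.Base

/-!
# Rational points of secant bundles and their images
-/

set_option autoImplicit false
set_option linter.style.haveILetI false
set_option linter.unusedSectionVars false
set_option backward.isDefEq.respectTransparency.types false
set_option backward.isDefEq.respectTransparency false

universe u

open CategoryTheory CategoryTheory.Limits AlgebraicGeometry TopologicalSpace Opposite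

noncomputable section

namespace Groth.L11.SecPts

open Groth.L18.Frame (rs ro rs_rs rs_self IsFrame pull pull_rs pull_smul)
open Groth.L19.ProjBdl (pullTop pullTop_smul app_rs pull_comp pull_congr pull_app)

theorem pullTop_app {T Y : Scheme.{u}} (h : T ⟶ Y) {M N : Y.Modules} (φ : M ⟶ N) (m : Γ(M, ⊤)) :
    pullTop h N (W := ⊤) le_top (φ.app ⊤ m) =
      ((Scheme.Modules.pullback h).map φ).app ⊤ (pullTop h M (W := ⊤) le_top m) := by
  rw [pullTop_top, pullTop_top]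
  exact (pull_app h φ ⊤ m).symm

theorem symm_homEquiv_app {T Y : Scheme.{u}} (g : T ⟶ Y) {M : Y.Modules} {N : T.Modules}
    (φ : M ⟶ (Scheme.Modules.pushforward g).obj N) (m : Γ(M, ⊤)) :
    (((Scheme.Modules.pullbackPushforwardAdjunction g).homEquiv M N).symm φ).app ⊤ (pull g M ⊤ m) = φ.app ⊤ m := by
  have h := ((Scheme.Modules.pullbackPushforwardAdjunction g).homEquiv M N).apply_symm_apply φ
  rw [Adjunction.homEquiv_unit] at h
  exact congr(($h).app ⊤ m)

theorem counit_pull {T Y : Scheme.{u}} (g : T ⟶ Y) (N : T.Modules) (m : Γ((Scheme.Modules.pushforward g).obj N, ⊤)) :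
    ((Scheme.Modules.pullbackPushforwardAdjunction g).counit.app N).app ⊤
      (pull g ((Scheme.Modules.pushforward g).obj N) ⊤ m) = m :=
  congr(($((Scheme.Modules.pullbackPushforwardAdjunction g).right_triangle_components N)).app ⊤ m)

/-- Composing a quotient with the comparisons, on a pulled back section. -/
theorem quot_pull {T B₀ P : Scheme.{u}} {π : P ⟶ B₀} {V : B₀.Modules} {O1 : P.Modules}
    (q : (Scheme.Modules.pullback π).obj V ⟶ O1) {g : T ⟶ B₀} {L : T.Modules} (h : T ⟶ P) (hg : h ≫ π = g)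
    (e : (Scheme.Modules.pullback h).obj O1 ⟶ L) (v : Γ(V, ⊤)) :
    ((Scheme.Modules.pullbackCongr hg).inv.app V ≫ (Scheme.Modules.pullbackComp h π).inv.app V ≫
      (Scheme.Modules.pullback h).map q ≫ e).app ⊤ (pull g V ⊤ v) =
        e.app ⊤ (pull h O1 ⊤ (q.app ⊤ (pull π V ⊤ v))) := by
  subst hg
  show e.app _ (((Scheme.Modules.pullback h).map q).app _ (((Scheme.Modules.pullbackComp h π).inv.app V).app _
    (((Scheme.Modules.pullbackCongr rfl).inv.app V).app _ (pull (h ≫ π) V ⊤ v)))) = _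
  rw [show ((Scheme.Modules.pullbackCongr (rfl : h ≫ π = h ≫ π)).inv.app V).app _ (pull (h ≫ π) V ⊤ v) = pull (h ≫ π) V ⊤ v
    from (pull_congr (rfl : h ≫ π = h ≫ π) V ⊤ v rfl).trans (rs_self _ _ _), pull_comp]
  exact congrArg (e.app ⊤) (pull_app h q ⊤ (pull π V ⊤ v))

variable {k : Type u} [Field k]


instance subsingleton_spec : Subsingleton ↥(Spec (CommRingCat.of k)) :=
  inferInstanceAs (Subsingleton (PrimeSpectrum k))

instance nonempty_spec : Nonempty ↥(Spec (CommRingCat.of k)) := ⟨IsLocalRing.closedPoint k⟩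

theorem isUnit_of_ne_zero (a : Γ(Spec (CommRingCat.of k), ⊤)) (ha : a ≠ 0) : IsUnit a := by
  have hb := ConcreteCategory.bijective_of_isIso (Scheme.ΓSpecIso (CommRingCat.of k)).inv
  obtain ⟨c, rfl⟩ := hb.2 a
  exact (IsUnit.mk0 c (by rintro rfl; exact ha (map_zero _))).map _

theorem one_ne_zero' : (1 : Γ(Spec (CommRingCat.of k), ⊤)) ≠ 0 := fun h => by
  have := congrArg (Scheme.ΓSpecIso (CommRingCat.of k)).hom h
  rw [map_one, map_zero] at this
  exact one_ne_zero this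

/-- Kernels of two quotient lines which are contained in one another are equal. -/
theorem ker_iff_of_imp {M N N' : (Spec (CommRingCat.of k)).Modules} (φ : M ⟶ N) (ψ : M ⟶ N') [Epi φ] [Epi ψ]
    (hN : FlatMod.IsFinLocFreeOfRank 1 N) (hN' : FlatMod.IsFinLocFreeOfRank 1 N')
    (h : ∀ x, φ.app ⊤ x = 0 → ψ.app ⊤ x = 0) (x : Γ(M, ⊤)) : φ.app ⊤ x = 0 ↔ ψ.app ⊤ x = 0 := by
  refine ⟨h x, fun hx => ?_⟩
  by_contra hne
  obtain ⟨τ, hτ⟩ := exists_frame_point hN
  obtain ⟨τ', hτ'⟩ := exists_frame_point hN'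
  obtain ⟨a, ha⟩ := (bijective_smul hτ).2 (φ.app ⊤ x)
  obtain ⟨c, hc⟩ := (isUnit_of_ne_zero a (by rintro rfl; exact hne (by rw [← ha]; exact zero_smul _ _))).exists_left_inv
  obtain ⟨m, hm⟩ := exists_app_ne_zero ψ hτ' one_ne_zero'
  obtain ⟨d, hd⟩ := (bijective_smul hτ).2 (φ.app ⊤ m)
  have h0 := h (m - (d * c) • x) (by
    rw [map_sub, Scheme.Modules.Hom.app_smul, ← ha, ← hd, smul_smul, mul_assoc, hc, mul_one, sub_self])
  rw [map_sub, Scheme.Modules.Hom.app_smul, hx, smul_zero, sub_zero] at h0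
  exact hm h0

section Base

variable (V : (Spec (CommRingCat.of k)).Modules) [Coh.IsQCoh V] {P : Scheme.{u}} (π : P ⟶ Spec (CommRingCat.of k)) (O1 : P.Modules)
  (q : (Scheme.Modules.pullback π).obj V ⟶ O1)

/-- A global section in the fibre over the point itself. -/
def R0 (v : Γ(V, ⊤)) : Γ((Scheme.Modules.pullback (𝟙 (Spec (CommRingCat.of k)))).obj V, ⊤) :=
  pullTop (𝟙 _) V (W := ⊤) le_top v

theorem surjective_R0 : Function.Surjective (R0 V) := fun x =>
  exists_pullTop V (𝟙 _) (isAffineOpen_top _) le_top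
    (appLE_top_props (𝟙 (Spec (CommRingCat.of k))) ⟨⊤, isAffineOpen_top _⟩ le_top).1 x

/-- The quotient line of a rational point. -/
def lam (t : Spec (CommRingCat.of k) ⟶ P) (ht : t ≫ π = 𝟙 _) (v : Γ(V, ⊤)) : Γ((Scheme.Modules.pullback t).obj O1, ⊤) :=
  (canon π V O1 q t ht).app ⊤ (R0 V v)

theorem lam_eq (t : Spec (CommRingCat.of k) ⟶ P) (ht : t ≫ π = 𝟙 _) (v : Γ(V, ⊤)) :
    lam V π O1 q t ht v = pullTop t O1 (W := ⊤) le_top (q.app ⊤ (pull π V ⊤ v)) :=
  canon_pullTop π V O1 q t ht v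

theorem lam_add (t : Spec (CommRingCat.of k) ⟶ P) (ht : t ≫ π = 𝟙 _) (v v' : Γ(V, ⊤)) :
    lam V π O1 q t ht (v + v') = lam V π O1 q t ht v + lam V π O1 q t ht v' := by
  rw [lam, lam, lam, R0, pullTop_add, map_add]
  rfl

theorem lam_smul (t : Spec (CommRingCat.of k) ⟶ P) (ht : t ≫ π = 𝟙 _) (a : Γ(Spec (CommRingCat.of k), ⊤)) (v : Γ(V, ⊤)) :
    lam V π O1 q t ht (a • v) = a • lam V π O1 q t ht v := by
  rw [lam, lam, ← Scheme.Modules.Hom.app_smul]
  refine congrArg _ ((pullTop_smul (𝟙 _) V (W := ⊤) le_top a v).trans (congrArg (· • _) ?_))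
  rw [show (𝟙 (Spec (CommRingCat.of k)) : Spec (CommRingCat.of k) ⟶ Spec (CommRingCat.of k)).appLE ⊤ ⊤ le_top a = a from ?_]
  rw [Scheme.Hom.appLE]
  exact Groth.L18.Frame.ro_self _ _

theorem lam_congr {t t' : Spec (CommRingCat.of k) ⟶ P} (e : t = t') (ht : t ≫ π = 𝟙 _) (ht' : t' ≫ π = 𝟙 _)
    (v : Γ(V, ⊤)) : lam V π O1 q t ht v = 0 ↔ lam V π O1 q t' ht' v = 0 := by
  subst e
  rfl

variable (hP : KRR.IsProjBundle π V O1 q)

include hP in
theorem lam_ext {t t' : Spec (CommRingCat.of k) ⟶ P} (ht : t ≫ π = 𝟙 _) (ht' : t' ≫ π = 𝟙 _)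
    (h : ∀ v, lam V π O1 q t ht v = 0 ↔ lam V π O1 q t' ht' v = 0) : t = t' :=
  point_ext π V O1 q isUnit_of_ne_zero one_ne_zero' hP ht ht' fun x => by
    obtain ⟨v, rfl⟩ := surjective_R0 V x
    exact h v

include hP in
theorem exists_lam_ne_zero (t : Spec (CommRingCat.of k) ⟶ P) (ht : t ≫ π = 𝟙 _) : ∃ v, lam V π O1 q t ht v ≠ 0 := by
  haveI := epi_canon π V O1 q hP t ht
  obtain ⟨τ, hτ⟩ := exists_frame_point (rank_one_pullback π V O1 q hP t)
  obtain ⟨m, hm⟩ := exists_app_ne_zero (canon π V O1 q t ht) hτ one_ne_zero'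
  obtain ⟨v, rfl⟩ := surjective_R0 V m
  exact ⟨v, hm⟩

include hP in
theorem lam_ker_of_imp {t t' : Spec (CommRingCat.of k) ⟶ P} (ht : t ≫ π = 𝟙 _) (ht' : t' ≫ π = 𝟙 _)
    (h : ∀ v, lam V π O1 q t ht v = 0 → lam V π O1 q t' ht' v = 0) : t = t' := by
  haveI := epi_canon π V O1 q hP t ht
  haveI := epi_canon π V O1 q hP t' ht'
  refine lam_ext V π O1 q hP ht ht' fun v => ker_iff_of_imp _ _ (rank_one_pullback π V O1 q hP t)
    (rank_one_pullback π V O1 q hP t') (fun x hx => ?_) (R0 V v)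
  obtain ⟨w, rfl⟩ := surjective_R0 V x
  exact h w hx

theorem lam_comp_eq_zero {T : Scheme.{u}} {g : T ⟶ Spec (CommRingCat.of k)} {L : T.Modules}
    {s : (Scheme.Modules.pullback g).obj V ⟶ L} {h : T ⟶ P} (hh : TautSh.IsMapOfQuot π V O1 q g L s h)
    (t : Spec (CommRingCat.of k) ⟶ T) (ht : (t ≫ h) ≫ π = 𝟙 _) (v : Γ(V, ⊤)) :
    lam V π O1 q (t ≫ h) ht v = 0 ↔ pullTop t L (W := ⊤) le_top (s.app ⊤ (pull g V ⊤ v)) = 0 := by
  obtain ⟨hg, e, rfl⟩ := hh
  rw [lam_eq, quot_pull q h hg e.hom v, pullTop_app t e.hom, app_eq_zero_iff, pullTop_top, pullTop_top]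
  exact pull_comp_eq_zero t h O1 ⊤ _

end Base

section Family

variable {X : Scheme.{u}} (f : X ⟶ Spec (CommRingCat.of k)) (d : ℕ) (H : Over (Spec (CommRingCat.of k)))
  (Z : HilbD.Obj f d H)

theorem fibre_deg (z : Spec (CommRingCat.of k) ⟶ H.left) (hz : z ≫ H.hom = 𝟙 _) :
    Mor2.IsFinLocFreeOfDeg d ((fibreSub f H Z.1 z hz).subschemeι ≫ f) :=
  Groth.L02.Hilb.isFinLocFreeOfDeg_comap (isPullback_iz f H z hz) Z.1 Z.2

/-- The base as a test object. -/
abbrev T₀ : Over (Spec (CommRingCat.of k)) := Over.mk (𝟙 _)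

theorem comap_fst_comap (J : X.IdealSheafData) :
    (J.comap (pullback.fst f (T₀ (k := k)).hom)).comap
      (pullback.lift (𝟙 X) f (by rw [Category.id_comp]; exact (Category.comp_id f).symm) :
        X ⟶ pullback f (T₀ (k := k)).hom) = J := by
  rw [← Scheme.IdealSheafData.comap_comp, pullback.lift_fst, Scheme.IdealSheafData.comap_id]

variable {f d H Z} (hU : HilbD.IsUniversal f d H Z)

theorem pull_homMk (z : Spec (CommRingCat.of k) ⟶ H.left) (hz : z ≫ H.hom = 𝟙 _) :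
    HilbD.pull f (Over.homMk z hz : T₀ ⟶ H) Z.1 = (fibreSub f H Z.1 z hz).comap (pullback.fst f (T₀ (k := k)).hom) := by
  rw [HilbD.pull, Groth.L02.Hilb.comap_eq_ker_snd, fibreSub, ← Scheme.IdealSheafData.comap_comp]
  congr 1
  refine pullback.hom_ext ?_ ?_
  · rw [Category.assoc, iz_fst, Category.comp_id]
    exact pullback.lift_fst _ _ _ |>.trans (Category.comp_id _)
  · rw [Category.assoc, iz, pullback.lift_snd]
    refine (pullback.lift_snd _ _ _).trans ?_
    rw [← Category.assoc, pullback.condition]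
    simp

include hU in
theorem exists_point_of_deg (c : X.IdealSheafData) (hc : Mor2.IsFinLocFreeOfDeg d (c.subschemeι ≫ f)) :
    ∃ (z : Spec (CommRingCat.of k) ⟶ H.left) (hz : z ≫ H.hom = 𝟙 _), fibreSub f H Z.1 z hz = c := by
  have hd := Groth.L02.Hilb.isFinLocFreeOfDeg_comap (IsPullback.of_hasPullback f (T₀ (k := k)).hom) c hc
  obtain ⟨g, hg, -⟩ := hU T₀ ⟨_, hd⟩
  have hz : g.left ≫ H.hom = 𝟙 _ := Over.w g
  refine ⟨g.left, hz, ?_⟩
  have h1 : (fibreSub f H Z.1 g.left hz).comap (pullback.fst f (T₀ (k := k)).hom) =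
      c.comap (pullback.fst f (T₀ (k := k)).hom) := (pull_homMk g.left hz).symm.trans hg
  rw [← comap_fst_comap f (fibreSub f H Z.1 g.left hz), h1, comap_fst_comap f c]

include hU in
theorem point_eq_of_fibre {z z' : Spec (CommRingCat.of k) ⟶ H.left} (hz : z ≫ H.hom = 𝟙 _) (hz' : z' ≫ H.hom = 𝟙 _)
    (h : fibreSub f H Z.1 z hz = fibreSub f H Z.1 z' hz') : z = z' := by
  have hd := Groth.L02.Hilb.isFinLocFreeOfDeg_comap (IsPullback.of_hasPullback f (T₀ (k := k)).hom) _ (fibre_deg f d H Z z hz)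
  obtain ⟨g, -, hg⟩ := hU T₀ ⟨_, hd⟩
  exact congrArg CommaMorphism.left ((hg (Over.homMk z hz) (pull_homMk z hz)).trans
    (hg (Over.homMk z' hz') ((pull_homMk z' hz').trans
      (congrArg (fun I => Scheme.IdealSheafData.comap I (pullback.fst f (T₀ (k := k)).hom)) h.symm))).symm)

end Family

section Secant

variable {X : Scheme.{u}} {f : X ⟶ Spec (CommRingCat.of k)} [IsProper f] (L : X.Modules) [Coh.IsQCoh L] {d : ℕ}
  {H : Over (Spec (CommRingCat.of k))} {Z : HilbD.Obj f d H} (hU : HilbD.IsUniversal f d H Z)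
  {PE : Scheme.{u}} {πE : PE ⟶ H.left} {OE : PE.Modules}
  {qE : (Scheme.Modules.pullback πE).obj (TautSh.taut f H Z.1 L) ⟶ OE}
  (hPE : KRR.IsProjBundle πE (TautSh.taut f H Z.1 L) OE qE)
  {P : Scheme.{u}} {π : P ⟶ Spec (CommRingCat.of k)} {O1 : P.Modules}
  {qP : (Scheme.Modules.pullback π).obj ((Scheme.Modules.pushforward f).obj L) ⟶ O1}
  (hP : KRR.IsProjBundle π ((Scheme.Modules.pushforward f).obj L) O1 qP) {h : PE ⟶ P}
  (hh : TautSh.IsMapOfQuot π ((Scheme.Modules.pushforward f).obj L) O1 qP (πE ≫ H.hom) OE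
    (TautSh.secantQuot f H Z.1 L πE OE qE) h)

theorem secantQuot_pull (v : Γ((Scheme.Modules.pushforward f).obj L, ⊤)) :
    (TautSh.secantQuot f H Z.1 L πE OE qE).app ⊤ (pull (πE ≫ H.hom) _ ⊤ v) =
      qE.app ⊤ (pull πE _ ⊤ (tautSec f H Z.1 L v)) := by
  have h1 := pull_comp πE H.hom ((Scheme.Modules.pushforward f).obj L) ⊤ v
  show qE.app ⊤ (((Scheme.Modules.pullback πE).map (TautSh.evalMap f H Z.1 L)).app _
    (((Scheme.Modules.pullbackComp πE H.hom).inv.app _).app _ (pull (πE ≫ H.hom) _ ⊤ v))) = _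
  refine congrArg (qE.app ⊤) ((congrArg _ h1).trans ((pull_app πE (TautSh.evalMap f H Z.1 L) ⊤ _).trans ?_))
  exact congrArg (pull πE _ ⊤) (symm_homEquiv_app H.hom (TautSh.pushEval f H Z.1 L) v)

include hh in
theorem comp_hom_of_point (a : Spec (CommRingCat.of k) ⟶ PE) (ha : (a ≫ πE) ≫ H.hom = 𝟙 _) : (a ≫ h) ≫ π = 𝟙 _ := by
  obtain ⟨hg, -, -⟩ := hh
  rw [Category.assoc, hg, ← Category.assoc, ha]

include hh in
theorem secant_ker [Coh.IsQCoh ((Scheme.Modules.pushforward f).obj L)] (a : Spec (CommRingCat.of k) ⟶ PE)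
    (ha : (a ≫ πE) ≫ H.hom = 𝟙 _) (hah : (a ≫ h) ≫ π = 𝟙 _) (v : Γ((Scheme.Modules.pushforward f).obj L, ⊤)) :
    lam _ π O1 qP (a ≫ h) hah v = 0 ↔
      (canon πE (TautSh.taut f H Z.1 L) OE qE a rfl).app ⊤ (fibreSec f H Z.1 L (a ≫ πE) v) = 0 := by
  rw [lam_comp_eq_zero _ π O1 qP hh a hah v, secantQuot_pull, fibreSec, canon_pullTop]

include hh hPE hU in
theorem secant_ext [Coh.IsQCoh ((Scheme.Modules.pushforward f).obj L)] {a b : Spec (CommRingCat.of k) ⟶ PE}
    (ha : (a ≫ πE) ≫ H.hom = 𝟙 _) (hb : (b ≫ πE) ≫ H.hom = 𝟙 _)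
    (hs : Function.Surjective (TautSh.resSect (fibreSub f H Z.1 (a ≫ πE) ha) L))
    (hsub : fibreSub f H Z.1 (a ≫ πE) ha = fibreSub f H Z.1 (b ≫ πE) hb) (hab : a ≫ h = b ≫ h) : a = b := by
  haveI : IsFinite (TautSh.famToH f H Z.1) := Z.2.1.1
  haveI : IsSeparated H.hom := Groth.Agent.S1167.result f d H Z hU
  have hz := point_eq_of_fibre hU ha hb hsub
  refine point_ext πE (TautSh.taut f H Z.1 L) OE qE isUnit_of_ne_zero one_ne_zero' hPE (g := a ≫ πE) rfl hz.symm
    fun x => ?_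
  obtain ⟨v, rfl⟩ := (fibreSec_props f H Z.1 L (a ≫ πE) ha).2 hs x
  rw [← secant_ker L hh a ha (comp_hom_of_point L hh a ha) v]
  have key : ∀ (z : Spec (CommRingCat.of k) ⟶ H.left) (e : b ≫ πE = z),
      (canon πE (TautSh.taut f H Z.1 L) OE qE b e).app ⊤ (fibreSec f H Z.1 L z v) = 0 ↔
        lam _ π O1 qP (b ≫ h) (comp_hom_of_point L hh b hb) v = 0 := by
    rintro _ rfl
    exact (secant_ker L hh b hb _ v).symm
  rw [key]
  exact lam_congr _ π O1 qP hab _ _ v

include hh hPE hP hU in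
/-- Functionals killing the sections vanishing on a member of the family come from its secant space. -/
theorem exists_secant_point [Coh.IsQCoh ((Scheme.Modules.pushforward f).obj L)] (t : Spec (CommRingCat.of k) ⟶ P) (ht : t ≫ π = 𝟙 _)
    (c : X.IdealSheafData) (hc : Mor2.IsFinLocFreeOfDeg d (c.subschemeι ≫ f))
    (hs : Function.Surjective (TautSh.resSect c L))
    (hker : ∀ v, TautSh.resSect c L v = 0 → lam _ π O1 qP t ht v = 0) :
    ∃ a : Spec (CommRingCat.of k) ⟶ PE, a ≫ πE ≫ H.hom = 𝟙 _ ∧ a ≫ h = t := by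
  haveI : IsFinite (TautSh.famToH f H Z.1) := Z.2.1.1
  haveI : IsSeparated H.hom := Groth.Agent.S1167.result f d H Z hU
  obtain ⟨z, hz, rfl⟩ := exists_point_of_deg hU c hc
  obtain ⟨hk, hsurj⟩ := fibreSec_props f H Z.1 L z hz
  choose sec hsec using hsurj hs
  have hwd : ∀ v w, fibreSec f H Z.1 L z v = fibreSec f H Z.1 L z w →
      lam _ π O1 qP t ht v = lam _ π O1 qP t ht w := fun v w e => by
    have h0 : fibreSec f H Z.1 L z (v - w) = 0 := by
      have := fibreSec_add f H Z.1 L z (v - w) w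
      rw [sub_add_cancel, e] at this
      simpa using this
    have h1 := lam_add _ π O1 qP t ht (v - w) w
    rw [sub_add_cancel, hker _ ((hk _).1 h0), zero_add] at h1
    exact h1
  obtain ⟨ψ, hψ⟩ := exists_hom_point (M := (Scheme.Modules.pullback z).obj (TautSh.taut f H Z.1 L))
    (N := (Scheme.Modules.pullback t).obj O1)
    (AddMonoidHom.mk' (fun x => lam _ π O1 qP t ht (sec x)) fun x y => by
      rw [← lam_add]
      exact hwd _ _ ((hsec (x + y)).trans
        ((congrArg₂ (· + ·) (hsec x) (hsec y)).symm.trans (fibreSec_add f H Z.1 L z (sec x) (sec y)).symm)))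
    (fun a x => by
      show lam _ π O1 qP t ht (sec (a • x)) = a • lam _ π O1 qP t ht (sec x)
      rw [← lam_smul]
      refine hwd _ _ ?_
      exact (hsec _).trans ((congrArg (a • ·) (hsec x)).symm.trans (fibreSec_smul f H Z.1 L z hz a (sec x)).symm))
  have hψv : ∀ v, ψ.app ⊤ (fibreSec f H Z.1 L z v) = lam _ π O1 qP t ht v := fun v =>
    (hψ _).trans (hwd _ _ (hsec _))
  have hN := rank_one_pullback π _ O1 qP hP t
  obtain ⟨τ, hτ⟩ := exists_frame_point hN
  obtain ⟨v₀, hv₀⟩ := exists_lam_ne_zero _ π O1 qP hP t ht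
  obtain ⟨m, hm⟩ := exists_app_eq_frame ψ hτ isUnit_of_ne_zero ⟨_, by rw [hψv]; exact hv₀⟩
  obtain ⟨a, ⟨ha, e, he⟩, -⟩ := hPE.univ _ z _ hN ψ (epi_of_app_eq_frame ψ hτ hm)
  subst ha
  refine ⟨a, by rw [← Category.assoc, hz], ?_⟩
  refine lam_ext _ π O1 qP hP (comp_hom_of_point L hh a hz) ht fun v => ?_
  rw [secant_ker L hh a hz _ v, ← hψv v, ← he]
  simp only [canon]
  exact (app_eq_zero_iff e.hom ⊤ _).symm

end Secant

end Groth.L11.SecPts
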