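import Groth.Prelude.Def_Mor2
import Groth.Agent.L02.Hilb.Base
import Groth.Agent.L22.Ideal
import Groth.Agent.L02.Hilb.IdealGlue
import Mathlib.AlgebraicGeometry.ZariskisMainTheorem
import Mathlib.AlgebraicGeometry.AlgClosed.Basic
import Mathlib.AlgebraicGeometry.Morphisms.FlatRank

/-!
# Finite subschemes of a scheme over an algebraically closed field

Lengths, intersections and unions of finite subschemes, and enlarging them by points.
-/

set_option autoImplicit false
set_option linter.style.haveILetI false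
set_option linter.unusedSectionVars false
set_option backward.isDefEq.respectTransparency.types false
set_option backward.isDefEq.respectTransparency false

universe u

open CategoryTheory CategoryTheory.Limits AlgebraicGeometry TopologicalSpace Opposite

noncomputable section

namespace Groth.L11.SecPts

variable {k : Type u} [Field k]

local notation "Spk" => Spec (CommRingCat.of k)

theorem subscheme_ker_comap {X Y : Scheme.{u}} (f : X ⟶ Y) : f.ker.comap f = ⊥ := by
  refine le_bot_iff.1 (Scheme.IdealSheafData.le_map_iff_comap_le.1 ?_)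
  rw [Scheme.IdealSheafData.map_bot]

/-- The structure map on global functions. -/
def strMap {Z : Scheme.{u}} (g : Z ⟶ Spec (CommRingCat.of k)) : CommRingCat.of k ⟶ Γ(Z, ⊤) :=
  (Scheme.ΓSpecIso (CommRingCat.of k)).inv ≫ g.appTop

/-- The dimension of the algebra of global functions. -/
def dimk {Z : Scheme.{u}} (g : Z ⟶ Spec (CommRingCat.of k)) : ℕ :=
  letI := (strMap g).hom.toAlgebra
  Module.finrank k Γ(Z, ⊤)

theorem eq_isoSpec_comp {Z : Scheme.{u}} [IsAffine Z] (g : Z ⟶ Spec (CommRingCat.of k)) :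
    g = Z.isoSpec.hom ≫ Spec.map (strMap g) := by
  refine ext_of_isAffine ?_
  simp [strMap, Scheme.isoSpec_hom]

theorem finite_finrank {Z : Scheme.{u}} (g : Z ⟶ Spec (CommRingCat.of k)) [IsFinite g] :
    (letI := (strMap g).hom.toAlgebra; Module.Finite k Γ(Z, ⊤)) ∧ ∀ s, g.finrank s = dimk g := by
  haveI : IsAffine Z := isAffine_of_isAffineHom g
  letI := (strMap g).hom.toAlgebra
  have hfin : Module.Finite k Γ(Z, ⊤) := by
    have h : IsFinite (Spec.map (strMap g)) := by
      haveI : IsFinite (Z.isoSpec.hom ≫ Spec.map (strMap g)) := eq_isoSpec_comp g ▸ ‹IsFinite g›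
      exact (MorphismProperty.cancel_left_of_respectsIso @IsFinite Z.isoSpec.hom _).1 this
    rw [IsFinite.SpecMap_iff] at h
    exact h
  refine ⟨hfin, fun s => ?_⟩
  haveI := hfin
  have hmap : Spec.map (strMap g) = Spec.map (CommRingCat.ofHom (algebraMap k Γ(Z, ⊤))) := rfl
  haveI : IsFinite (Spec.map (CommRingCat.ofHom (algebraMap k Γ(Z, ⊤)))) := by
    rw [IsFinite.SpecMap_iff]; exact hfin
  haveI : Flat (Spec.map (CommRingCat.ofHom (algebraMap k Γ(Z, ⊤)))) := by
    rw [Flat.SpecMap_iff]
    exact RingHom.flat_algebraMap_iff.2 inferInstance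
  have e : g.finrank = (Z.isoSpec.hom ≫ Spec.map (CommRingCat.ofHom (algebraMap k Γ(Z, ⊤)))).finrank := by
    rw [← hmap, ← eq_isoSpec_comp]
  rw [e, Scheme.Hom.finrank_comp_left_of_isIso, Scheme.Hom.finrank_SpecMap_algebraMap, Module.rankAtStalk_eq_finrank_of_free]
  rfl

theorem isFinLocFree_of_finite {Z : Scheme.{u}} (g : Z ⟶ Spec (CommRingCat.of k)) [IsFinite g] :
    Mor2.IsFinLocFreeOfDeg (dimk g) g := by
  refine ⟨⟨inferInstance, ?_, ?_⟩, (finite_finrank g).2⟩
  · haveI : IsAffine Z := isAffine_of_isAffineHom g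
    rw [eq_isoSpec_comp g]
    haveI : Flat (Spec.map (strMap g)) := by
      rw [Flat.SpecMap_iff]
      letI := (strMap g).hom.toAlgebra
      exact (RingHom.flat_algebraMap_iff (R := k) (S := Γ(Z, ⊤))).2 inferInstance
    infer_instance
  · infer_instance

theorem dimk_eq {Z : Scheme.{u}} {g : Z ⟶ Spec (CommRingCat.of k)} {n : ℕ} (h : Mor2.IsFinLocFreeOfDeg n g) :
    dimk g = n := by
  haveI : IsFinite g := h.1.1
  have s : Spec (CommRingCat.of k) := IsLocalRing.closedPoint k
  rw [← (finite_finrank g).2 s]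
  exact h.2 s

theorem dimk_le_of_closedImmersion {Z Z' : Scheme.{u}} (g : Z ⟶ Spec (CommRingCat.of k)) [IsFinite g] (i : Z' ⟶ Z)
    [IsClosedImmersion i] {g' : Z' ⟶ Spec (CommRingCat.of k)} (hg : i ≫ g = g') :
    dimk g' ≤ dimk g ∧ (dimk g' = dimk g → IsIso i) := by
  subst hg
  haveI : IsAffine Z := isAffine_of_isAffineHom g
  haveI : IsFinite (i ≫ g) := inferInstance
  letI := (strMap g).hom.toAlgebra
  letI := (strMap (i ≫ g)).hom.toAlgebra
  haveI := (finite_finrank g).1
  haveI := (finite_finrank (i ≫ g)).1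
  let F : Γ(Z, ⊤) →ₗ[k] Γ(Z', ⊤) :=
    { toFun := i.appTop
      map_add' := map_add _
      map_smul' := fun a x => by
        show i.appTop (strMap g a * x) = strMap (i ≫ g) a * i.appTop x
        rw [map_mul, strMap, strMap, Scheme.Hom.comp_appTop]
        rfl }
  have hs : Function.Surjective F := i.app_surjective ⊤ (isAffineOpen_top Z)
  refine ⟨LinearMap.finrank_le_finrank_of_injective (f := F.dualMap) (LinearMap.dualMap_injective_of_surjective hs)
    |> fun h => by simpa [dimk, Subspace.dual_finrank_eq] using h, fun he => ?_⟩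
  have hinj : Function.Injective F := (LinearMap.injective_iff_surjective_of_finrank_eq_finrank he.symm).2 hs
  exact IsClosedImmersion.isIso_of_injective_of_isAffine hinj

section Subschemes

variable {X : Scheme.{u}} (f : X ⟶ Spec (CommRingCat.of k))

/-- The length of a finite subscheme. -/
abbrev len (I : X.IdealSheafData) : ℕ := dimk (I.subschemeι ≫ f)

theorem len_mono {I J : X.IdealSheafData} (h : I ≤ J) [IsFinite (I.subschemeι ≫ f)] :
    IsFinite (J.subschemeι ≫ f) ∧ len f J ≤ len f I ∧ (len f J = len f I → J = I) := by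
  set i := Scheme.IdealSheafData.inclusion h
  have hi : i ≫ I.subschemeι = J.subschemeι := Scheme.IdealSheafData.inclusion_subschemeι h
  haveI : IsClosedImmersion i := by
    haveI : IsClosedImmersion (i ≫ I.subschemeι) := by rw [hi]; infer_instance
    exact IsClosedImmersion.of_comp i I.subschemeι
  have hf : i ≫ I.subschemeι ≫ f = J.subschemeι ≫ f := by rw [← Category.assoc, hi]
  obtain ⟨h1, h2⟩ := dimk_le_of_closedImmersion (I.subschemeι ≫ f) i hf
  refine ⟨by rw [← hf]; infer_instance, h1, fun he => ?_⟩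
  haveI := h2 he
  rw [← J.ker_subschemeι, ← hi, Scheme.Hom.ker_comp_of_isIso, Scheme.IdealSheafData.ker_subschemeι]

theorem isFinite_inf [IsProper f] (I J : X.IdealSheafData) [IsFinite (I.subschemeι ≫ f)] [IsFinite (J.subschemeι ≫ f)] :
    IsFinite ((I ⊓ J).subschemeι ≫ f) := by
  haveI : LocallyQuasiFinite ((I ⊓ J).subschemeι ≫ f) := by
    refine locallyQuasiFinite_iff_finite_preimage_singleton.2 fun y => ?_
    have hI := (I.subschemeι ≫ f).finite_preimage_singleton y
    have hJ := (J.subschemeι ≫ f).finite_preimage_singleton y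
    refine Set.Finite.of_finite_image (f := (I ⊓ J).subschemeι) ?_ (I ⊓ J).subschemeι.injective.injOn
    refine ((hI.image I.subschemeι).union (hJ.image J.subschemeι)).subset ?_
    rintro _ ⟨w, hw, rfl⟩
    have hmem : (I ⊓ J).subschemeι w ∈ ((I ⊓ J).support : Set X) := by
      rw [← Scheme.IdealSheafData.range_subschemeι]; exact ⟨w, rfl⟩
    have hle : I * J ≤ I ⊓ J := fun U => by
      rw [Scheme.IdealSheafData.ideal_mul, Pi.mul_apply, Scheme.IdealSheafData.ideal_inf, Pi.inf_apply]
      exact Ideal.mul_le_inf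
    have hmem2 : (I ⊓ J).subschemeι w ∈ ((I * J).support : Set X) := Scheme.IdealSheafData.support_antitone hle hmem
    rw [Scheme.IdealSheafData.support_mul, Closeds.coe_sup] at hmem2
    rcases hmem2 with h | h
    · rw [← Scheme.IdealSheafData.range_subschemeι] at h
      obtain ⟨v, hv⟩ := h
      exact Or.inl ⟨v, by simpa [hv] using hw, hv⟩
    · rw [← Scheme.IdealSheafData.range_subschemeι] at h
      obtain ⟨v, hv⟩ := h
      exact Or.inr ⟨v, by simpa [hv] using hw, hv⟩
  exact (IsFinite.iff_isProper_and_locallyQuasiFinite _).2 ⟨inferInstance, inferInstance⟩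

/-- On a union of two closed subschemes the two ideals meet in zero. -/
theorem comap_inf_eq_bot (I J : X.IdealSheafData) :
    I.comap (I ⊓ J).subschemeι ⊓ J.comap (I ⊓ J).subschemeι = ⊥ := by
  refine Groth.L02.Hilb.ext_of_openCover (fun V : X.affineOpens => ((I ⊓ J).subschemeι ⁻¹ᵁ V.1).ι) (fun x => ?_) fun V => ?_
  · obtain ⟨V, hV, hx, -⟩ := exists_isAffineOpen_mem_and_subset (x := (I ⊓ J).subschemeι x) (U := ⊤) trivial
    exact ⟨⟨V, hV⟩, ⟨⟨x, hx⟩, rfl⟩⟩
  · let W : (I ⊓ J).subscheme.affineOpens := ⟨_, V.2.preimage (I ⊓ J).subschemeι⟩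
    haveI : IsAffine ((I ⊓ J).subschemeι ⁻¹ᵁ V.1).toScheme := W.2
    refine Scheme.IdealSheafData.ext_of_isAffine ?_
    erw [Groth.L22.Ideals.comap_ideal_ι _ W, Groth.L22.Ideals.comap_ideal_ι _ W]
    congr 1
    rw [Scheme.IdealSheafData.ideal_inf, Pi.inf_apply, Groth.L22.Ideals.comap_ideal _ I V W le_rfl,
      Groth.L22.Ideals.comap_ideal _ J V W le_rfl, ← Scheme.Hom.app_eq_appLE, Scheme.IdealSheafData.ideal_bot, Pi.bot_apply]
    refine eq_bot_iff.2 fun w ⟨hwI, hwJ⟩ => ?_
    have hs := (I ⊓ J).subschemeι.app_surjective _ V.2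
    have hk : RingHom.ker ((I ⊓ J).subschemeι.app V.1).hom = I.ideal V ⊓ J.ideal V := by
      rw [(I ⊓ J).ker_subschemeι_app V, Scheme.IdealSheafData.ideal_inf, Pi.inf_apply]
    obtain ⟨a, ha, rfl⟩ := (Ideal.mem_map_iff_of_surjective _ hs).1 hwI
    obtain ⟨c, hc, hac⟩ := (Ideal.mem_map_iff_of_surjective _ hs).1 hwJ
    have hd : c - a ∈ RingHom.ker ((I ⊓ J).subschemeι.app V.1).hom := by
      rw [RingHom.mem_ker, map_sub, hac, sub_self]
    rw [hk] at hd
    have haJ : a ∈ J.ideal V := by simpa using sub_mem hc hd.2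
    show _ = 0
    rw [← RingHom.mem_ker, hk]
    exact ⟨ha, haJ⟩

theorem len_inf_le [IsProper f] (I J : X.IdealSheafData) [IsFinite (I.subschemeι ≫ f)] [IsFinite (J.subschemeι ≫ f)] :
    len f (I ⊓ J) ≤ len f I + len f J := by
  haveI := isFinite_inf f I J
  set W := (I ⊓ J).subscheme
  set iI := Scheme.IdealSheafData.inclusion (inf_le_left : I ⊓ J ≤ I)
  set iJ := Scheme.IdealSheafData.inclusion (inf_le_right : I ⊓ J ≤ J)
  have hI : iI ≫ (I ⊓ J).subschemeι = I.subschemeι := Scheme.IdealSheafData.inclusion_subschemeι _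
  have hJ : iJ ≫ (I ⊓ J).subschemeι = J.subschemeι := Scheme.IdealSheafData.inclusion_subschemeι _
  haveI : IsAffine W := isAffine_of_isAffineHom ((I ⊓ J).subschemeι ≫ f)
  letI := (strMap ((I ⊓ J).subschemeι ≫ f)).hom.toAlgebra
  letI := (strMap (I.subschemeι ≫ f)).hom.toAlgebra
  letI := (strMap (J.subschemeι ≫ f)).hom.toAlgebra
  haveI := (finite_finrank (I.subschemeι ≫ f)).1
  haveI := (finite_finrank (J.subschemeι ≫ f)).1
  let F : Γ(W, ⊤) →ₗ[k] Γ(I.subscheme, ⊤) × Γ(J.subscheme, ⊤) :=
    { toFun := fun x => (iI.appTop x, iJ.appTop x)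
      map_add' := fun a b => Prod.ext (map_add _ a b) (map_add _ a b)
      map_smul' := fun a x => Prod.ext
        (show iI.appTop (strMap ((I ⊓ J).subschemeι ≫ f) a * x) = strMap (I.subschemeι ≫ f) a * iI.appTop x by
          rw [map_mul, strMap, strMap, ← hI, Category.assoc, Scheme.Hom.comp_appTop iI]; rfl)
        (show iJ.appTop (strMap ((I ⊓ J).subschemeι ≫ f) a * x) = strMap (J.subschemeι ≫ f) a * iJ.appTop x by
          rw [map_mul, strMap, strMap, ← hJ, Category.assoc, Scheme.Hom.comp_appTop iJ]; rfl) }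
  have hk : ∀ (K : X.IdealSheafData) (h : I ⊓ J ≤ K) (x : Γ(W, ⊤)), (Scheme.IdealSheafData.inclusion h).appTop x = 0 →
      x ∈ (K.comap (I ⊓ J).subschemeι).ideal ⟨⊤, isAffineOpen_top W⟩ := fun K h x hx => by
    have hle : (Scheme.IdealSheafData.inclusion h).ker ≤ K.comap (I ⊓ J).subschemeι := by
      refine le_of_eq ?_
      have sq : IsPullback (Scheme.IdealSheafData.inclusion h) (𝟙 _) (I ⊓ J).subschemeι K.subschemeι := by
        refine IsPullback.of_isLimit' ⟨by simp⟩ (PullbackCone.IsLimit.mk _ (fun t => t.snd) (fun t => ?_)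
          (fun t => Category.comp_id _) fun t m _ h2 => ?_)
        · rw [← cancel_mono (I ⊓ J).subschemeι, Category.assoc, Scheme.IdealSheafData.inclusion_subschemeι]
          exact t.condition.symm
        · simpa using h2
      have := (isPullback_comap_ker sq)
      rw [Scheme.IdealSheafData.ker_subschemeι] at this
      exact this
    refine hle ⟨⊤, isAffineOpen_top W⟩ ?_
    rw [Scheme.Hom.ker_apply]
    exact hx
  have hinj : Function.Injective F := by
    rw [injective_iff_map_eq_zero]
    intro x hx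
    have h1 := hk I inf_le_left x (congrArg Prod.fst hx)
    have h2 := hk J inf_le_right x (congrArg Prod.snd hx)
    have h3 : x ∈ (I.comap (I ⊓ J).subschemeι ⊓ J.comap (I ⊓ J).subschemeι).ideal ⟨⊤, isAffineOpen_top W⟩ := by
      rw [Scheme.IdealSheafData.ideal_inf, Pi.inf_apply]; exact ⟨h1, h2⟩
    rw [comap_inf_eq_bot, Scheme.IdealSheafData.ideal_bot] at h3
    exact h3
  exact (LinearMap.finrank_le_finrank_of_injective hinj).trans (Module.finrank_prod).le
where
  isPullback_comap_ker {P A Y Z : Scheme.{u}} {i : P ⟶ A} {p : P ⟶ Y} {g : A ⟶ Z} {j : Y ⟶ Z} [IsClosedImmersion j]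
      (sq : IsPullback i p g j) : i.ker = j.ker.comap g := by
    rw [← sq.isoPullback_hom_fst, Scheme.Hom.ker_comp_of_isIso, Scheme.IdealSheafData.ker_fst_of_isClosedImmersion]

variable [IsAlgClosed k] [IsProper f] [IsIntegral X]

theorem exists_point_ideal {x : X} (hx : IsClosed ({x} : Set X)) :
    ∃ P : X.IdealSheafData, IsFinite (P.subschemeι ≫ f) ∧ len f P = 1 ∧ (P.support : Set X) = {x} := by
  let s := (pointEquivClosedPoint f).symm ⟨x, hx⟩
  haveI : IsClosedImmersion s.1 := by
    haveI : IsClosedImmersion (s.1 ≫ f) := by rw [s.2]; infer_instance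
    exact IsClosedImmersion.of_comp s.1 f
  have e : s.1.toImage ≫ s.1.ker.subschemeι ≫ f = 𝟙 _ := by
    rw [← Category.assoc]; erw [s.1.toImage_imageι]; exact s.2
  haveI : IsIso s.1.toImage := inferInstance
  have hdeg : Mor2.IsFinLocFreeOfDeg 1 (s.1.ker.subschemeι ≫ f) := by
    haveI : IsIso (s.1.ker.subschemeι ≫ f) := by
      have : IsIso (s.1.toImage ≫ s.1.ker.subschemeι ≫ f) := by rw [e]; infer_instance
      exact IsIso.of_isIso_comp_left s.1.toImage _
    exact Groth.L02.Hilb.isFinLocFreeOfDeg_one_of_isIso _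
  refine ⟨s.1.ker, hdeg.1.1, dimk_eq hdeg, ?_⟩
  rw [Scheme.Hom.support_ker]
  show closure (Set.range s.1) = {x}
  rw [s.1.isClosedEmbedding.isClosed_range.closure_eq]
  have hpt : s.1 (IsLocalRing.closedPoint k) = x :=
    congrArg Subtype.val ((pointEquivClosedPoint f).apply_symm_apply ⟨x, hx⟩)
  refine Set.eq_singleton_iff_unique_mem.2 ⟨⟨_, hpt⟩, ?_⟩
  rintro _ ⟨y, rfl⟩
  rw [← hpt, Subsingleton.elim (α := PrimeSpectrum k) y (IsLocalRing.closedPoint k)]

theorem exists_closed_not_mem_support (I : X.IdealSheafData) [IsFinite (I.subschemeι ≫ f)] (hX : ¬ Subsingleton X) :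
    ∃ x : X, IsClosed ({x} : Set X) ∧ x ∉ (I.support : Set X) := by
  haveI : JacobsonSpace X := LocallyOfFiniteType.jacobsonSpace f
  by_contra hcon
  push Not at hcon
  have hsub : closedPoints X ⊆ (I.support : Set X) := fun x hx => hcon x hx
  have huniv : (I.support : Set X) = Set.univ :=
    top_le_iff.1 ((closure_closedPoints (X := X)).ge.trans (closure_minimal hsub I.support.isClosed))
  have hfin : Finite I.subscheme := by
    have := (I.subschemeι ≫ f).finite_preimage_singleton (IsLocalRing.closedPoint k)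
    refine Set.finite_univ_iff.1 (this.subset fun w _ => ?_)
    exact Subsingleton.elim (α := PrimeSpectrum k) _ _
  haveI : Finite X := by
    refine Finite.of_surjective I.subschemeι fun x => ?_
    have hx : x ∈ (I.support : Set X) := huniv ▸ Set.mem_univ x
    rw [← Scheme.IdealSheafData.range_subschemeι] at hx
    exact hx
  refine hX ⟨fun a b => ?_⟩
  have hall : ∀ c : X, IsClosed ({c} : Set X) := by
    have hc : closedPoints X = Set.univ := by
      rw [← closure_closedPoints (X := X)]
      refine (IsClosed.closure_eq ?_).symm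
      have e : closedPoints X = ⋃ c : closedPoints X, ({c.1} : Set X) := by ext y; simp
      rw [e]
      exact isClosed_iUnion_of_finite fun c => c.2
    exact fun c => (hc ▸ Set.mem_univ c : c ∈ closedPoints X)
  have h1 : ∀ c : X, c = genericPoint X := fun c => by
    have h2 : c ∈ closure ({genericPoint X} : Set X) := by rw [genericPoint_spec X]; trivial
    rwa [(hall (genericPoint X)).closure_eq] at h2
  exact (h1 a).trans (h1 b).symm

/-- A finite subscheme lies in one of any larger length. -/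
theorem exists_le_len (hX : ¬ Subsingleton X) (I : X.IdealSheafData) [IsFinite (I.subschemeι ≫ f)] {N : ℕ}
    (hN : len f I ≤ N) : ∃ I' ≤ I, Mor2.IsFinLocFreeOfDeg N (I'.subschemeι ≫ f) := by
  induction N, hN using Nat.le_induction with
  | base => exact ⟨I, le_rfl, isFinLocFree_of_finite _⟩
  | succ N _ ih =>
    obtain ⟨J, hJI, hJ⟩ := ih
    haveI : IsFinite (J.subschemeι ≫ f) := hJ.1.1
    obtain ⟨x, hx, hxJ⟩ := exists_closed_not_mem_support f J hX
    obtain ⟨P, hP, hP1, hPs⟩ := exists_point_ideal f hx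
    haveI := hP
    haveI := isFinite_inf f J P
    refine ⟨J ⊓ P, inf_le_left.trans hJI, ?_⟩
    have h1 := len_inf_le f J P
    obtain ⟨-, h2, h3⟩ := len_mono f (inf_le_left : J ⊓ P ≤ J)
    have h4 : len f J ≠ len f (J ⊓ P) := fun e => hxJ (by
      have hle : J ≤ P := (h3 e).le.trans inf_le_right
      exact (Scheme.IdealSheafData.support_antitone hle) (show x ∈ (P.support : Set X) by rw [hPs]; rfl))
    have hJN : len f J = N := dimk_eq hJ
    have : len f (J ⊓ P) = N + 1 := by omega
    rw [← this]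
    exact isFinLocFree_of_finite _

end Subschemes

end Groth.L11.SecPts
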