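import Groth.Agent.L11.SecPts.Family
import Groth.Agent.L11.SecPts.Sub

/-!
# Sections vanishing on finite subschemes
-/

set_option autoImplicit false
set_option linter.style.haveILetI false
set_option linter.unusedSectionVars false
set_option backward.isDefEq.respectTransparency.types false
set_option backward.isDefEq.respectTransparency false

universe u

open CategoryTheory CategoryTheory.Limits AlgebraicGeometry TopologicalSpace Opposite

noncomputable section

namespace Groth.L11.SecPts

open Groth.L18.Frame (rs ro rs_rs rs_self pull pull_rs pull_smul)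
open Groth.L19.ProjBdl (pullTop pull_comp pull_congr)
open Groth.L16.AffineBC (pullRes)

theorem pullTop_top {T Y : Scheme.{u}} (h : T ⟶ Y) (M : Y.Modules) (m : Γ(M, ⊤)) :
    pullTop h M (W := ⊤) le_top m = pull h M ⊤ m := rs_self _ _ _

theorem pullTop_zero {T Y : Scheme.{u}} (h : T ⟶ Y) (M : Y.Modules) {W : Y.Opens} (hW : ⊤ ≤ h ⁻¹ᵁ W) :
    pullTop h M hW (0 : Γ(M, W)) = 0 := by
  have := pullTop_add h M hW 0 0
  rw [add_zero] at this
  exact left_eq_add.1 this

theorem pull_factor_eq_zero {T Y Z : Scheme.{u}} {f : T ⟶ Y} {g : Y ⟶ Z} {h : T ⟶ Z} (e : f ≫ g = h) (M : Z.Modules)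
    (m : Γ(M, ⊤)) :
    pull h M ⊤ m = 0 ↔ pullTop f ((Scheme.Modules.pullback g).obj M) (W := ⊤) le_top (pull g M ⊤ m) = 0 := by
  subst e
  rw [pullTop_top, pull_comp_eq_zero]
  rfl

theorem surjective_pull_factor {T Y Z : Scheme.{u}} [IsAffine T] [IsAffine Y] {f : T ⟶ Y} [IsClosedImmersion f]
    {g : Y ⟶ Z} {h : T ⟶ Z} (e : f ≫ g = h) (M : Z.Modules) [Coh.IsQCoh ((Scheme.Modules.pullback g).obj M)]
    (hs : Function.Surjective (pull g M ⊤)) : Function.Surjective (pull h M ⊤) := by
  subst e
  obtain ⟨hsur, -⟩ := appLE_top_props f ⟨⊤, isAffineOpen_top _⟩ le_top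
  intro y
  obtain ⟨m, hm⟩ := exists_pullTop ((Scheme.Modules.pullback g).obj M) f (isAffineOpen_top Y) le_top hsur
    (((Scheme.Modules.pullbackComp f g).inv.app M).app ⊤ y)
  obtain ⟨s, rfl⟩ := hs m
  refine ⟨s, (ConcreteCategory.bijective_of_isIso (((Scheme.Modules.pullbackComp f g).inv.app M).app ⊤)).1 ?_⟩
  refine Eq.trans ?_ hm
  rw [pullTop_top]
  exact pull_comp f g M ⊤ s

variable {X : Scheme.{u}} (L : X.Modules)

/-- Restriction of a global section to a closed subscheme. -/
def res (I : X.IdealSheafData) (s : Γ(L, ⊤)) : Γ((Scheme.Modules.pullback I.subschemeι).obj L, ⊤) :=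
  pull I.subschemeι L ⊤ s

theorem res_add (I : X.IdealSheafData) (s t : Γ(L, ⊤)) : res L I (s + t) = res L I s + res L I t :=
  map_add (((Scheme.Modules.pullbackPushforwardAdjunction I.subschemeι).unit.app L).app ⊤).hom s t

theorem res_sub (I : X.IdealSheafData) (s t : Γ(L, ⊤)) : res L I (s - t) = res L I s - res L I t := by
  rw [eq_sub_iff_add_eq, ← res_add, sub_add_cancel]

theorem res_eq_zero_iff (I : X.IdealSheafData) (s : Γ(L, ⊤)) : TautSh.resSect I L s = 0 ↔ res L I s = 0 := Iff.rfl

theorem surjective_res_iff (I : X.IdealSheafData) :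
    Function.Surjective (TautSh.resSect I L) ↔ Function.Surjective (res L I) := Iff.rfl

theorem ker_inclusion {I J : X.IdealSheafData} (h : I ≤ J) :
    (Scheme.IdealSheafData.inclusion h).ker = J.comap I.subschemeι := by
  have sq : IsPullback (Scheme.IdealSheafData.inclusion h) (𝟙 _) I.subschemeι J.subschemeι := by
    refine IsPullback.of_isLimit' ⟨by simp⟩ (PullbackCone.IsLimit.mk _ (fun t => t.snd) (fun t => ?_)
      (fun t => Category.comp_id _) fun t m _ h2 => ?_)
    · rw [← cancel_mono I.subschemeι, Category.assoc, Scheme.IdealSheafData.inclusion_subschemeι]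
      exact t.condition.symm
    · simpa using h2
  rw [Groth.L17.Thick.ker_of_isPullback sq, Scheme.IdealSheafData.ker_subschemeι]

theorem isClosedImmersion_inclusion {I J : X.IdealSheafData} (h : I ≤ J) :
    IsClosedImmersion (Scheme.IdealSheafData.inclusion h) := by
  haveI : IsClosedImmersion (Scheme.IdealSheafData.inclusion h ≫ I.subschemeι) := by
    rw [Scheme.IdealSheafData.inclusion_subschemeι]; infer_instance
  exact IsClosedImmersion.of_comp _ I.subschemeι

theorem resFactor {I J : X.IdealSheafData} (h : I ≤ J) (s : Γ(L, ⊤)) :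
    res L J s = 0 ↔
      pullTop (Scheme.IdealSheafData.inclusion h) ((Scheme.Modules.pullback I.subschemeι).obj L) (W := ⊤) le_top
        (res L I s) = 0 := by
  exact pull_factor_eq_zero (Scheme.IdealSheafData.inclusion_subschemeι h) L s

theorem vanish_mono {I J : X.IdealSheafData} (h : I ≤ J) (s : Γ(L, ⊤)) (hs : res L I s = 0) :
    res L J s = 0 := by
  rw [resFactor L h, hs]
  exact pullTop_zero _ _ _

variable [Coh.IsQCoh L] {k : Type u} [Field k] (f : X ⟶ Spec (CommRingCat.of k))

theorem surjective_mono {I J : X.IdealSheafData} [IsFinite (I.subschemeι ≫ f)] (h : I ≤ J)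
    (hs : Function.Surjective (res L I)) : Function.Surjective (res L J) := by
  haveI : IsAffine I.subscheme := isAffine_of_isAffineHom (I.subschemeι ≫ f)
  haveI := (len_mono f h).1
  haveI : IsAffine J.subscheme := isAffine_of_isAffineHom (J.subschemeι ≫ f)
  haveI := isClosedImmersion_inclusion h
  haveI : Coh.IsQCoh ((Scheme.Modules.pullback I.subschemeι).obj L) := Groth.L16.AffineBC.isQCoh_pullback _ _
  exact surjective_pull_factor (Scheme.IdealSheafData.inclusion_subschemeι h) L hs

/-- Sections vanishing on an intersection are sums of sections vanishing on the two subschemes. -/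
theorem exists_add {I J : X.IdealSheafData} [IsFinite ((I ⊓ J).subschemeι ≫ f)]
    (hsurj : Function.Surjective (res L (I ⊓ J))) (s : Γ(L, ⊤)) (hs : res L (I ⊔ J) s = 0) :
    ∃ s₁ s₂, s₁ + s₂ = s ∧ res L I s₁ = 0 ∧ res L J s₂ = 0 := by
  haveI : IsAffine (I ⊓ J).subscheme := isAffine_of_isAffineHom ((I ⊓ J).subschemeι ≫ f)
  let W : (I ⊓ J).subscheme.affineOpens := ⟨⊤, isAffineOpen_top _⟩
  set M := (Scheme.Modules.pullback (I ⊓ J).subschemeι).obj L
  haveI : Coh.IsQCoh M := Groth.L16.AffineBC.isQCoh_pullback _ _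
  have hker : ∀ (K : X.IdealSheafData) (h : I ⊓ J ≤ K) (m : Γ(M, ⊤)),
      pullTop (Scheme.IdealSheafData.inclusion h) M (W := ⊤) le_top m = 0 ↔
        m ∈ (K.comap (I ⊓ J).subschemeι).ideal W • (⊤ : Submodule Γ((I ⊓ J).subscheme, ⊤) Γ(M, ⊤)) := by
    intro K h m
    haveI := (len_mono f h).1
    haveI : IsAffine K.subscheme := isAffine_of_isAffineHom (K.subschemeι ≫ f)
    haveI := isClosedImmersion_inclusion h
    obtain ⟨hsur, hk⟩ := appLE_top_props (Scheme.IdealSheafData.inclusion h) W le_top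
    rw [← ker_inclusion h, ← hk]
    exact pullRes_eq_zero_iff (Scheme.IdealSheafData.inclusion h) M W.2 (isAffineOpen_top _) le_top hsur m
  rw [resFactor L (le_sup_of_le_left inf_le_left : I ⊓ J ≤ I ⊔ J), hker,
    Scheme.IdealSheafData.comap_sup, Scheme.IdealSheafData.ideal_sup, Pi.sup_apply, Submodule.sup_smul,
    Submodule.mem_sup] at hs
  obtain ⟨m₁, h₁, m₂, h₂, hm⟩ := hs
  obtain ⟨s₁, hs₁⟩ := hsurj m₁
  refine ⟨s₁, s - s₁, by abel, ?_, ?_⟩
  · rw [resFactor L (inf_le_left : I ⊓ J ≤ I), hker, hs₁]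
    exact h₁
  · rw [resFactor L (inf_le_right : I ⊓ J ≤ J), hker, res_sub, hs₁, ← hm, add_sub_cancel_left]
    exact h₂

end Groth.L11.SecPts
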